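import Groth.Agent.PlaneCurve.Curve
import Groth.Agent.Curves1.RR.GenusZero
import Groth.Agent.Curves1.RR.EtaleGenusZero
import Groth.Agent.CurveBridge.Canonical
import Groth.Agent.CurveBridge.BaseChange
import Groth.Agent.Chow.ProjUnique

/-!
# A canonically embedded plane curve is not a double cover of a curve of genus zero
-/

set_option linter.style.haveILetI false
set_option backward.isDefEq.respectTransparency.types false

universe u

open CategoryTheory CategoryTheory.Limits AlgebraicGeometry Opposite TopologicalSpace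
open Groth.PicAux Groth.EulerDeg Groth.Chow Groth.PropsBasic.Ample

namespace Groth.PlaneCurve

attribute [local instance] secModule

variable {k : Type u} [Field k]

/-- A section on an integral scheme with nonempty generating locus is nonzero. -/
theorem ne_zero_of_mem_gloc {X : Scheme.{u}} {L : X.Modules} {t : Γ(L, ⊤)} {x : X}
    (hx : x ∈ gloc t) : t ≠ 0 := by
  rintro rfl
  have hg := gen_gloc (0 : Γ(L, ⊤)) (le_refl (gloc (0 : Γ(L, ⊤))))
  have h1 : (1 : Γ(X, gloc (0 : Γ(L, ⊤)))) = 0 :=
    hg.smul_inj le_rfl (by rw [res_zero, res_self, smul_zero, smul_zero])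
  have h2 := congrArg (X.presheaf.germ _ x hx) h1
  rw [map_one, map_zero] at h2
  exact one_ne_zero h2

variable {X P : Scheme.{u}} [X.Over (Spec (CommRingCat.of k))] [P.Over (Spec (CommRingCat.of k))]
  (h : X ⟶ P) (hover : h ≫ (P ↘ Spec (CommRingCat.of k)) = X ↘ Spec (CommRingCat.of k))

include hover in
theorem app_toSec (U : P.Opens) (a : k) : h.app U (toSec k U a) = toSec k (h ⁻¹ᵁ U) a := by
  show h.app U (resX P le_top ((P ↘ Spec (CommRingCat.of k)).appTop
    ((Scheme.ΓSpecIso (CommRingCat.of k)).inv a))) =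
    resX X le_top ((X ↘ Spec (CommRingCat.of k)).appTop ((Scheme.ΓSpecIso (CommRingCat.of k)).inv a))
  rw [← hover, Scheme.Hom.comp_appTop, CommRingCat.comp_apply]
  exact congr($(h.naturality (homOfLE (le_top : U ≤ ⊤)).op) _)

/-- Pull-back of global sections, linearly over the ground field. -/
noncomputable def pullLin (M : P.Modules) :
    Γ(M, ⊤) →ₗ[k] Γ((Scheme.Modules.pullback h).obj M, ⊤) where
  toFun m := pullSec h M m
  map_add' m m' := map_add (((Scheme.Modules.pullbackPushforwardAdjunction h).unit.app M).app ⊤).hom m m'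
  map_smul' a m := by
    rw [RingHom.id_apply, smul_sec, pullSec_smul, app_toSec h hover]
    rfl

theorem pullLin_injective [IsIntegral P] (hs : Function.Surjective h) {M : P.Modules}
    (hM : PicF.IsInvertible M) : Function.Injective (pullLin h hover M) := by
  refine (injective_iff_map_eq_zero _).2 fun m hm => ?_
  by_contra hne
  obtain ⟨x, hx⟩ := hs (genericPoint P)
  have h1 : x ∈ gloc (pullSec h M m) := by
    rw [gloc_pullSec h hM]
    show h x ∈ gloc m
    rw [hx]
    exact Groth.Curves1.RR.genericPoint_mem_gloc hM hne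
  exact ne_zero_of_mem_gloc h1 hm

include hover in
/-- A smooth curve embedded in the plane by a module of degree four with three sections and of
genus three has no double cover onto a curve of genus zero. -/
theorem no_double_cover [IsIntegral X] [IsProper (X ↘ Spec (CommRingCat.of k))]
    [Smooth (X ↘ Spec (CommRingCat.of k))] (hdimX : topologicalKrullDim X = 1)
    (h0 : Module.finrank k (Coh.HH X (Coh.structureModule X) 0) = 1)
    (hgX : Curv2.genus k X = 3) (i : X ⟶ CohB1.ProjSpace 2 k) [IsClosedImmersion i]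
    (hi : i ≫ CohB1.ProjSpace.toSpec 2 k = X ↘ Spec (CommRingCat.of k))
    (hH0 : Module.finrank k
      (Coh.HH X ((Scheme.Modules.pullback i).obj (Twist.twistProjSpace 2 k 1)) 0) = 3)
    (hHd : Curv2.deg k X ((Scheme.Modules.pullback i).obj (Twist.twistProjSpace 2 k 1)) 1 = 4)
    [IsProper (P ↘ Spec (CommRingCat.of k))] [Smooth (P ↘ Spec (CommRingCat.of k))]
    (hP : topologicalKrullDim P = 1)
    (hP0 : (Module.finrank k (Coh.HH P (Coh.structureModule P) 0) : ℤ) -
      Module.finrank k (Coh.HH P (Coh.structureModule P) 1) = 1)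
    [IsFinite h] [Flat h] (hr : ∀ y : P, Scheme.Hom.finrank h y = 2) : False := by
  classical
  have := isNoetherian_of_proper k P
  haveI : LocallyOfFinitePresentation h := inferInstance
  haveI hsurj : Surjective h := (Scheme.Hom.one_le_finrank_iff_surjective (f := h)).1 fun y => by
    rw [Pi.one_apply, hr]; norm_num
  haveI : ConnectedSpace P := h.surjective.connectedSpace h.continuous
  haveI : IsIntegral P := Groth.CurveBridge.isIntegral_of_smooth k P
  have hP1 : Module.finrank k (Coh.HH P (Coh.structureModule P) 0) = 1 := by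
    haveI := finite_HH k P (isCoh_of_isInvertible (isInvertible_structureModule P)) 0
    haveI := finite_HH k X (isCoh_of_isInvertible (isInvertible_structureModule X)) 0
    haveI : Module.Finite k Γ(Coh.structureModule X, ⊤) :=
      Module.Finite.equiv (h0Equiv k (Coh.structureModule X))
    let f : Γ(Coh.structureModule P, ⊤) →ₗ[k] Γ(Coh.structureModule X, ⊤) :=
      { toFun := fun r => h.appTop (toFun r)
        map_add' := fun r r' => map_add h.appTop.hom _ _
        map_smul' := fun a r => by
          refine (congrArg h.appTop (toFun_smul (toSec k (⊤ : P.Opens) a) r)).trans ?_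
          rw [map_mul]
          refine Eq.trans ?_ (toFun_smul (toSec k (⊤ : X.Opens) a) (h.appTop (toFun r))).symm
          rw [show h.appTop (toSec k ⊤ a) = toSec k ⊤ a from app_toSec h hover ⊤ a]
          rfl }
    haveI : UniversallyClosed (P ↘ Spec (CommRingCat.of k)) := inferInstance
    have hfld : IsField Γ(P, ⊤) := isField_of_universallyClosed k (P ↘ Spec (CommRingCat.of k))
    letI := hfld.toField
    haveI : Nontrivial Γ(X, ⊤) := inferInstance
    have hf : Function.Injective f := h.appTop.hom.injective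
    have h1 := LinearMap.finrank_le_finrank_of_injective hf
    rw [← (h0Equiv k (Coh.structureModule P)).finrank_eq,
      ← (h0Equiv k (Coh.structureModule X)).finrank_eq, h0] at h1
    omega
  have hgP : Curv2.genus k P = 0 := by
    show Module.finrank k (Coh.HH P (Coh.structureModule P) 1) = 0
    omega
  obtain ⟨hΩ, hΩd⟩ := Groth.Curves1.RR.omega_deg k hP hP1
  obtain ⟨M, hM, hΩM⟩ := exists_isInverseOf hΩ
  have hMd : Curv2.deg k P M 1 = 2 := by
    obtain ⟨e⟩ := hΩM
    have h1 := deg_congr (k := k) e 1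
    rw [deg_tensor_invertible k hP.le hΩ hM, hΩd, hgP] at h1
    have h2 : Curv2.deg k P (Coh.structureModule P) 1 = 0 := by simp [Curv2.deg]
    rw [h2] at h1
    omega
  have hM0 : Module.finrank k (Coh.HH P M 0) = 3 := by
    have h1 := Groth.Curves1.RR.subsingleton_h1_of_deg_ge k hP.le hP1 hM (by rw [hgP, hMd]; norm_num)
    have e := Groth.Curves1.RR.euler_eq k hP.le hP1 (L := M)
    rw [euler_eq_h0_sub_h1 k P hP.le M, finrank_eq_zero_of_subsingleton h1, hMd, hgP] at e
    omega
  let N := (Scheme.Modules.pullback h).obj M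
  have hN : PicF.IsInvertible N := isInvertible_pullback h hM
  have hNd : Curv2.deg k X N 1 = 4 := by
    rw [Groth.Curves1.RR.deg_pullback_finite k hP.le h hover 2 hr hM, hMd]; norm_num
  haveI := finite_HH k X (isCoh_of_isInvertible hN) 0
  haveI := finite_HH k P (isCoh_of_isInvertible hM) 0
  haveI : Module.Finite k Γ(N, ⊤) := Module.Finite.equiv (h0Equiv k N)
  haveI : Module.Finite k Γ(M, ⊤) := Module.Finite.equiv (h0Equiv k M)
  have hinj := pullLin_injective h hover h.surjective hM
  have hN0 : 3 ≤ Module.finrank k (Coh.HH X N 0) := by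
    have h1 := LinearMap.finrank_le_finrank_of_injective hinj
    rw [← (h0Equiv k M).finrank_eq, ← (h0Equiv k N).finrank_eq, hM0] at h1
    exact h1
  let O1 := Twist.twistProjSpace 2 k (1 : ℤ)
  let L := (Scheme.Modules.pullback i).obj O1
  have hO1 : PicF.IsInvertible O1 := isInvertible_twistProjSpace 1
  obtain ⟨e⟩ : Nonempty (N ≅ L) :=
    Groth.CurveBridge.nonempty_iso_of_canonical_numerics
      (Groth.CurveBridge.isRegCurve_of_smooth k X hdimX)
      (Groth.CurveBridge.isFunctionField_field k X hdimX h0) hN (isInvertible_pullback i hO1)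
      (by rw [hgX]; exact hN0) (by rw [hgX, hNd]; norm_num)
      (by rw [hgX, hH0]) (by rw [hgX, hHd]; norm_num)
  have hsur : Function.Surjective (pullLin h hover M) :=
    (LinearMap.injective_iff_surjective_of_finrank_eq_finrank (by
      rw [← (h0Equiv k M).finrank_eq, ← (h0Equiv k N).finrank_eq, hM0,
        finrank_congr (k := k) e 0, hH0])).1 hinj
  choose m hm using fun l : Fin 3 =>
    hsur (e.inv.app ⊤ (ProjUP.pullSec i (ToPn.O1 2 k) (ToPn.co 2 k l)))
  let q : P ⟶ Spec (CommRingCat.of k) := P ↘ Spec (CommRingCat.of k)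
  let hgen : Algebra.adjoin k (Set.range fun l : Fin (2 + 1) =>
      (MvPolynomial.X l : MvPolynomial (Fin (2 + 1)) k)) = ⊤ := MvPolynomial.adjoin_range_X
  have hU : ⨆ l, ToPn.U M m l = ⊤ := by
    refine eq_top_iff.2 fun y _ => ?_
    obtain ⟨x, rfl⟩ := h.surjective y
    obtain ⟨l, hl⟩ := Opens.mem_iSup.1 ((Proj.iSup_basicOpen_eq_top (CohB1.polyGrading 2 k) _
      ToPn.irrelevant_le_span_X).ge (Set.mem_univ (i x)))
    refine Opens.mem_iSup.2 ⟨l, ?_⟩
    have h1 : gloc (pullSec h M (m l)) = i ⁻¹ᵁ Proj.basicOpen _ (MvPolynomial.X l) := by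
      refine (congrArg gloc (hm l)).trans ((gloc_map e.inv _).trans ?_)
      exact (gloc_pullSec i hO1 _).trans (congrArg (i ⁻¹ᵁ ·)
        (ProjUnique.gloc_co (𝒮 := CohB1.polyGrading 2 k) (fun l => ToPn.X_mem l) hgen l))
    rw [gloc_pullSec h hM] at h1
    exact h1.ge hl
  obtain ⟨r, hrU⟩ := ToPn.exists_r q M m hU
  have hr' : r ≫ CohB1.ProjSpace.toSpec 2 k = q := ToPn.r_toSpec hrU hU
  obtain ⟨τ, hτ⟩ := ToPn.exists_tau hrU hU
  let T : L ≅ (Scheme.Modules.pullback (h ≫ r)).obj O1 :=
    e.symm ≪≫ (Scheme.Modules.pullback h).mapIso τ.symm ≪≫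
      (Scheme.Modules.pullbackComp h r).app O1
  have heq : i = h ≫ r := by
    refine ProjUnique.hom_eq (𝒮 := CohB1.polyGrading 2 k) (fun l => ToPn.X_mem l) hgen i (h ≫ r)
      (hi.trans ((hover.symm.trans (congrArg (h ≫ ·) hr'.symm)).trans (Category.assoc _ _ _).symm))
      T fun l => ?_
    have h1 : τ.inv.app ⊤ (m l) = ProjUP.pullSec r (ToPn.O1 2 k) (ToPn.co 2 k l) := by
      rw [← hτ l, ← CategoryTheory.comp_apply, ← Scheme.Modules.Hom.comp_app, Iso.hom_inv_id]
      rfl
    show ((Scheme.Modules.pullbackComp h r).hom.app O1).app ⊤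
      (((Scheme.Modules.pullback h).map τ.inv).app ⊤ (e.inv.app ⊤ _)) = _
    refine (congrArg (fun z => ((Scheme.Modules.pullbackComp h r).hom.app O1).app ⊤
      (((Scheme.Modules.pullback h).map τ.inv).app ⊤ z)) (hm l).symm).trans ?_
    refine (congrArg (((Scheme.Modules.pullbackComp h r).hom.app O1).app ⊤)
      ((pullSec_map h τ.inv (m l)).trans (congrArg (pullSec h _) h1))).trans ?_
    exact pullSec_comp h r O1 (U := (⊤ : (CohB1.ProjSpace 2 k).Opens)) _
  haveI : IsSeparated r := by
    haveI : IsSeparated (r ≫ CohB1.ProjSpace.toSpec 2 k) := by rw [hr']; infer_instance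
    exact IsSeparated.of_comp r (CohB1.ProjSpace.toSpec 2 k)
  haveI : IsClosedImmersion (h ≫ r) := heq ▸ inferInstance
  haveI : IsClosedImmersion h := IsClosedImmersion.of_comp h r
  haveI : IsIso h := Flat.isIso_of_surjective_of_mono h
  have h1 := congrFun (Scheme.Hom.finrank_eq_one_of_isIso h) (genericPoint P)
  rw [hr, Pi.one_apply] at h1
  omega

end Groth.PlaneCurve
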