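import Groth.Prelude.Def_LefPen
import Groth.Agent.PicAux.EffCartierSection
import Groth.Agent.PicAux.Powers
import Groth.Agent.Chow.ToPn
import Groth.Agent.Ega2Proj.TwistGen
import Groth.Agent.Curves1.RR.GenusZeroP1
import Groth.Agent.PnCoh.GlobalFun
import Groth.Agent.PnCoh.Cohomology

/-!
# The ideal of a hypersurface in projective space

`LefPen.hypIdeal G` is the zero scheme of the section `G` of `O(d)`; for `G ≠ 0` it is an effective
Cartier ideal, isomorphic to `O(-d)`.
-/

set_option linter.style.haveILetI false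

universe u

open CategoryTheory CategoryTheory.Limits AlgebraicGeometry Opposite TopologicalSpace
open Groth.PicAux

namespace Groth.PlaneCurve

variable {r : ℕ} {k : Type u} [Field k] {d : ℕ}

local notation "ℙg" => CohB1.polyGrading r k

/-- A form as a global section of `O(d)`. -/
noncomputable def formSec (G : LefPen.Form r k d) : Γ(Twist.twistProjSpace r k (d : ℤ), ⊤) :=
  Twist.globalOf ℙg G

/-- A form as a map `O ⟶ O(d)`. -/
noncomputable def formHom (G : LefPen.Form r k d) :
    Coh.structureModule (CohB1.ProjSpace r k) ⟶ Twist.twistProjSpace r k (d : ℤ) :=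
  homOfSection (formSec G)

theorem irrelevant_le :
    (HomogeneousIdeal.irrelevant ℙg).toIdeal ≤ Ideal.span (ℙg 1 : Set (MvPolynomial (Fin (r + 1)) k)) :=
  Groth.Chow.ToPn.irrelevant_le_span_X.trans
    (Ideal.span_mono fun _ ⟨i, hi⟩ => hi ▸ LefPen.X_mem r k i)

theorem isInvertible_twistProjSpace (e : ℤ) : PicF.IsInvertible (Twist.twistProjSpace r k e) :=
  Groth.Ega2Proj.isInvertible_twist (𝒜 := CohB1.polyGrading r k) (irrelevant_le (r := r) (k := k)) e

/-- The frame `T_i ^ d` of `O(d)` on a chart. -/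
noncomputable def frame (i : Fin (r + 1)) (d : ℕ) :
    Γ(Twist.twistProjSpace r k (d : ℤ), LefPen.chart r k i) :=
  Groth.Ega2Proj.pwSec (N := (d : ℤ)) (LefPen.X_mem r k i) (d : ℤ) (by simp) fun _ hx => hx

theorem gen_frame (i : Fin (r + 1)) (d : ℕ) :
    Gen (Twist.twistProjSpace r k (d : ℤ)) (LefPen.chart r k i) (frame i d) :=
  Groth.Ega2Proj.gen_pwSec _ _ _ _

theorem res_formSec (G : LefPen.Form r k d) (i : Fin (r + 1)) :
    res _ (le_top : LefPen.chart r k i ≤ ⊤) (formSec G) = LefPen.dehom G i • frame i d := by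
  refine Groth.Ega2Proj.wval_ext fun x hx => ?_
  refine (Groth.Ega2Proj.wval_res _ _ x hx).trans ?_
  refine Eq.trans ?_ (Groth.Ega2Proj.wval_smul _ _ x hx).symm
  have h1 : Groth.Ega2Proj.wval (frame (k := k) i d) x hx =
      algebraMap (MvPolynomial (Fin (r + 1)) k) (Twist.Loc ℙg x) (MvPolynomial.X i ^ d) := by
    refine (Groth.Ega2Proj.wval_pwSec _ _ _ _ x hx).trans ?_
    rw [zpow_natCast, Units.val_pow_eq_pow_val, Groth.Ega2Proj.coe_funit, map_pow]
  refine (Localization.mk_one_eq_algebraMap G.1).trans ?_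
  rw [h1, LefPen.dehom]
  erw [ProjectiveSpectrum.Proj.awayToSection_apply]
  rw [HomogeneousLocalization.Away.val_mk, Localization.mk_eq_mk', IsLocalization.map_mk',
    ← IsLocalization.mk'_one (M := x.asHomogeneousIdeal.toIdeal.primeCompl) (Twist.Loc ℙg x),
    ← IsLocalization.mk'_one (M := x.asHomogeneousIdeal.toIdeal.primeCompl) (Twist.Loc ℙg x)
      (MvPolynomial.X i ^ d), ← IsLocalization.mk'_mul, IsLocalization.mk'_eq_iff_eq]
  simp
  ring

theorem formHom_app (G : LefPen.Form r k d) (U : (CohB1.ProjSpace r k).Opens) :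
    (formHom G).app U (oneSec _ U) = res _ (le_top : U ≤ ⊤) (formSec G) := by
  rw [← res_app_oneSec (formHom G) (le_top : U ≤ ⊤)]
  exact congrArg (res _ le_top) (homOfSection_one _)

/-- On an open inside a chart the coefficient of the form is `G / T_i ^ d`. -/
theorem formHom_app_of_le (G : LefPen.Form r k d) (i : Fin (r + 1))
    {U : (CohB1.ProjSpace r k).Opens} (hU : U ≤ LefPen.chart r k i) :
    (formHom G).app U (oneSec _ U) =
      resX _ hU (LefPen.dehom G i) • res _ hU (frame i d) := by
  rw [formHom_app, ← res_res (le_top : LefPen.chart r k i ≤ ⊤) hU, res_formSec, res_smul]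

/-- The hypersurface is the zero scheme of its form. -/
theorem hypIdeal_eq_zeroScheme (G : LefPen.Form r k d) :
    LefPen.hypIdeal G = PicF2.zeroScheme (Twist.twistProjSpace r k (d : ℤ)) (formHom G) := by
  have hL := isInvertible_twistProjSpace (r := r) (k := k) (d : ℤ)
  apply le_antisymm
  · refine Scheme.IdealSheafData.le_of_iSup_eq_top
      (U := fun i : Fin (r + 1) => ⟨LefPen.chart r k i,
        Proj.isAffineOpen_basicOpen ℙg _ (LefPen.X_mem r k i) one_pos⟩) ?_ fun i => ?_
    · exact Proj.iSup_basicOpen_eq_top ℙg _ Groth.Chow.ToPn.irrelevant_le_span_X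
    · rw [Variety2.Zero.zeroScheme_ideal_eq_span hL (formHom G) ⟨LefPen.chart r k i,
        Proj.isAffineOpen_basicOpen ℙg _ (LefPen.X_mem r k i) one_pos⟩ (gen_frame (k := k) i d)
        (c := LefPen.dehom G i)
        ((formHom_app_of_le G i le_rfl).trans (by rw [resX_self, res_self]))]
      refine (Scheme.IdealSheafData.ideal_ofIdeals_le _ _).trans ((iInf_le _ i).trans ?_)
      intro a ha
      rw [Ideal.mem_comap, Ideal.mem_span_singleton'] at ha
      obtain ⟨b, hb⟩ := ha
      have hle : LefPen.chart r k i ≤ LefPen.chart r k i ⊓ LefPen.chart r k i := le_inf le_rfl le_rfl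
      have h3 := congrArg (resX (CohB1.ProjSpace r k) hle) hb
      rw [map_mul] at h3
      refine Ideal.mem_span_singleton'.2 ⟨resX _ hle b, ?_⟩
      refine Eq.trans ?_ (h3.trans ?_)
      · congr 1
        all_goals exact ((resX_resX _ _ _).trans (resX_self _ _)).symm
      · exact (resX_resX _ _ _).trans (resX_self _ _)
  · refine Scheme.IdealSheafData.le_ofIdeals_iff.2 fun U => le_iInf fun i => ?_
    intro a ha
    rw [Ideal.mem_comap]
    let W : (CohB1.ProjSpace r k).affineOpens := ⟨U.1 ⊓ LefPen.chart r k i,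
      Groth.PnCoh.isAffineOpen_inf_projSpace (n := r) (R := k) U.1 (LefPen.chart r k i) U.2
        (Proj.isAffineOpen_basicOpen ℙg _ (LefPen.X_mem r k i) one_pos)⟩
    have hW : W.1 ≤ LefPen.chart r k i := inf_le_right
    have h1 := Ideal.mem_map_of_mem
      ((CohB1.ProjSpace r k).presheaf.map (homOfLE (inf_le_left : W.1 ≤ U.1)).op).hom ha
    have e1 := Scheme.IdealSheafData.map_ideal
      (PicF2.zeroScheme (Twist.twistProjSpace r k (d : ℤ)) (formHom G)) (U := W) (V := U)
      (show W ≤ U from (inf_le_left : W.1 ≤ U.1))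
    have e2 := Variety2.Zero.zeroScheme_ideal_eq_span hL (formHom G) W ((gen_frame i d).res hW)
      (formHom_app_of_le G i hW)
    have h2 := (e1.trans e2).le h1
    exact h2

variable (r k d) in
theorem formSec_injective : Function.Injective (formSec (r := r) (k := k) (d := d)) := by
  intro G G' h
  have hx : (0 : Fin (r + 1)) = 0 := rfl
  let x : ProjectiveSpectrum ℙg := genericPoint (CohB1.ProjSpace r k)
  have h1 := congrArg (fun s : Γ(Twist.twistProjSpace r k (d : ℤ), ⊤) =>
    (Groth.Ega2Proj.wval (U := (⊤ : (Proj ℙg).Opens)) s x trivial)) h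
  have h2 : algebraMap (MvPolynomial (Fin (r + 1)) k) (Twist.Loc ℙg x) G.1 =
      algebraMap (MvPolynomial (Fin (r + 1)) k) (Twist.Loc ℙg x) G'.1 :=
    (Localization.mk_one_eq_algebraMap G.1).symm.trans (h1.trans (Localization.mk_one_eq_algebraMap G'.1))
  exact Subtype.ext (IsLocalization.injective (Twist.Loc ℙg x)
    (show x.asHomogeneousIdeal.toIdeal.primeCompl ≤ nonZeroDivisors _ from
      fun a ha => mem_nonZeroDivisors_of_ne_zero fun h0 => ha (h0 ▸ Ideal.zero_mem _)) h2)

theorem formHom_ne_zero {G : LefPen.Form r k d} (hG : G ≠ 0) : formHom G ≠ 0 := by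
  intro h
  refine hG (formSec_injective r k d ?_)
  have h1 : (formHom G).app ⊤ (oneSec _ ⊤) = 0 := by rw [h]; rfl
  refine ((homOfSection_one (formSec G)).symm.trans h1).trans ?_
  refine Groth.Ega2Proj.wval_ext fun x hx => ?_
  exact ((Localization.mk_one_eq_algebraMap (0 : MvPolynomial (Fin (r + 1)) k)).trans
    (map_zero _)).symm

theorem regularSection_formHom {G : LefPen.Form r k d} (hG : G ≠ 0) :
    RegularSection _ (formHom G) :=
  regularSection_of_ne_zero (isInvertible_twistProjSpace _) (formHom_ne_zero hG)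

/-- A hypersurface is an effective Cartier divisor. -/
theorem isEffCartierIdeal_hypIdeal {G : LefPen.Form r k d} (hG : G ≠ 0) :
    BlowUp.IsEffCartierIdeal (LefPen.hypIdeal G) := by
  rw [hypIdeal_eq_zeroScheme]
  exact isEffCartierIdeal_zeroScheme (isInvertible_twistProjSpace _) (regularSection_formHom hG)

/-- The ideal of a hypersurface of degree `d` is `O(-d)`. -/
theorem nonempty_idealMod_hypIdeal {G : LefPen.Form r k d} (hG : G ≠ 0) :
    Nonempty (ClSub.idealMod (LefPen.hypIdeal G) ≅ Twist.twistProjSpace r k (-(d : ℤ))) := by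
  rw [hypIdeal_eq_zeroScheme]
  have h1 := isInverseOf_zeroScheme (isInvertible_twistProjSpace _) (regularSection_formHom hG)
  obtain ⟨e⟩ := Groth.Ega2Proj.nonempty_tensor_iso (irrelevant_le (r := r) (k := k)) (d : ℤ) (-(d : ℤ))
  have h2 : ClSub.IsInverseOf (Twist.twistProjSpace r k (d : ℤ))
      (Twist.twistProjSpace r k (-(d : ℤ))) := by
    rw [add_neg_cancel] at e
    obtain ⟨e0⟩ := Groth.PnCoh.nonempty_twist_zero_iso (R := k) ℙg
    exact ⟨e ≪≫ e0⟩
  exact isInverseOf_unique h1 h2

end Groth.PlaneCurve
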