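import Groth.Agent.PlaneCurve.Cohomology
import Groth.Agent.EulerDeg.Supported
import Groth.Agent.EulerDeg.Coherent
import Groth.Agent.LocCohTransform.ConnDim

/-!
# Plane curves are connected of dimension at most one
-/

set_option linter.style.haveILetI false
set_option backward.isDefEq.respectTransparency.types false

universe u

open CategoryTheory CategoryTheory.Limits AlgebraicGeometry Opposite TopologicalSpace
open Groth.PicAux Groth.EulerDeg

namespace Groth.PlaneCurve

variable {k : Type u} [Field k] {d : ℕ} (G : LefPen.Form 2 k d)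
  [inst : ((LefPen.hypIdeal G).subscheme).Over (Spec (CommRingCat.of k))]
  (hinst : (LefPen.hypIdeal G).subscheme ↘ (Spec (CommRingCat.of k)) =
    (LefPen.hypIdeal G).subschemeι ≫ CohB1.ProjSpace.toSpec 2 k)

include hinst in
theorem isProper_curve : IsProper ((LefPen.hypIdeal G).subscheme ↘ Spec (CommRingCat.of k)) := by
  haveI : IsProper (CohB1.ProjSpace.toSpec 2 k) := isProper_toSpec 2
  rw [hinst]; infer_instance

include hinst in
theorem connected (hd : 1 ≤ d) (hG : G ≠ 0) :
    ConnectedSpace ↥((LefPen.hypIdeal G).subscheme) := by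
  haveI := isProper_curve G hinst
  have h0 := h0_structure G hinst hd hG
  haveI : Nonempty ↥((LefPen.hypIdeal G).subscheme) := by
    by_contra h
    rw [not_nonempty_iff] at h
    have h1 : Subsingleton (Coh.HH _ (Coh.structureModule (LefPen.hypIdeal G).subscheme) 0) := by
      refine (h0Equiv k (Coh.structureModule (LefPen.hypIdeal G).subscheme)).toEquiv.subsingleton_congr.2 ?_
      have : (⊤ : (LefPen.hypIdeal G).subscheme.Opens) = ⊥ :=
        TopologicalSpace.Opens.ext (Set.eq_empty_of_isEmpty _ |>.trans (Set.eq_empty_of_isEmpty _).symm)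
      change Subsingleton Γ((LefPen.hypIdeal G).subscheme, ⊤)
      rw [this]
      infer_instance
    rw [finrank_eq_zero_of_subsingleton h1] at h0
    exact zero_ne_one h0
  exact Groth.Curves1.RR.connectedSpace_of_h0 k h0

theorem dim_le_one (hG : G ≠ 0) : topologicalKrullDim ↥((LefPen.hypIdeal G).subscheme) ≤ 1 := by
  haveI := Groth.Curves1.RR.isIntegral_projSpace (k := k) 2
  let ι := (LefPen.hypIdeal G).subschemeι
  have hr : Set.range ι = ((LefPen.hypIdeal G).support : Set (CohB1.ProjSpace 2 k)) :=
    (LefPen.hypIdeal G).range_subschemeι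
  have hη : genericPoint (CohB1.ProjSpace 2 k) ∉ Set.range ι := fun h => by
    rw [hr] at h
    exact Divisors.not_mem_support_of_maximal (isEffCartierIdeal_hypIdeal hG)
      (fun y hy => (hy.antisymm (genericPoint_specializes y)).eq) h
  have hemb := ι.isClosedEmbedding
  have hlt := Groth.LocCohTransform.topologicalKrullDim_lt_of_ssubset (T := ↥(CohB1.ProjSpace 2 k))
    (Set.subset_univ (Set.range ι)) (fun h => hη (h trivial)) hemb.isClosed_range isClosed_univ
    (IrreducibleSpace.isIrreducible_univ _) ?_
  · have h2 : topologicalKrullDim (Set.univ : Set ↥(CohB1.ProjSpace 2 k)) ≤ 2 :=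
      (topologicalKrullDim_subspace_le _ _).trans (Groth.Variety2.PSpace.dim_projSpace (n := 2) (k := k)).le
    have h3 : topologicalKrullDim ↥((LefPen.hypIdeal G).subscheme) ≤
        topologicalKrullDim (Set.range ι) :=
      (hemb.isEmbedding.toHomeomorph.isInducing).topologicalKrullDim_le
    have h4 := hlt.trans_le h2
    refine h3.trans ?_
    revert h4
    generalize topologicalKrullDim (Set.range ι) = a
    intro h4
    cases a with
    | bot => exact bot_le
    | coe a =>
      have h5 : a < 2 := WithBot.coe_lt_coe.1 h4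
      exact WithBot.coe_le_coe.2 (Order.le_of_lt_add_one (by rwa [one_add_one_eq_two]))
  · refine lt_of_le_of_lt ((topologicalKrullDim_subspace_le _ _).trans
      (Groth.Variety2.PSpace.dim_projSpace (n := 2) (k := k)).le) ?_
    exact WithBot.coe_lt_coe.2 (ENat.coe_lt_top 2)

include hinst in
theorem dim_eq_one (hd : 3 ≤ d) (hG : G ≠ 0) :
    topologicalKrullDim ↥((LefPen.hypIdeal G).subscheme) = 1 := by
  haveI := isProper_curve G hinst
  haveI := connected G hinst (by omega) hG
  haveI : (Coh.structureModule (LefPen.hypIdeal G).subscheme).IsQuasicoherent :=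
    isQCoh_structureModule _
  refine le_antisymm (dim_le_one G hG) ?_
  by_contra hlt
  rw [not_le] at hlt
  have h0 : topologicalKrullDim
      (CohB1.support (Coh.structureModule (LefPen.hypIdeal G).subscheme)) ≤ 0 := by
    refine (topologicalKrullDim_subspace_le _ _).trans ?_
    generalize topologicalKrullDim ↥((LefPen.hypIdeal G).subscheme) = a at hlt
    cases a with
    | bot => exact bot_le
    | coe a =>
      have h5 : a < 1 := WithBot.coe_lt_coe.1 hlt
      exact WithBot.coe_le_coe.2 (ENat.lt_one_iff_eq_zero.1 h5).le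
  haveI := noetherianSpace_of_proper k (LefPen.hypIdeal G).subscheme
  have h := subsingleton_HH_of_supportedAtClosed (supportedAtClosed_of_dim_le_zero h0) 1 le_rfl
  have h1 := h1_structure G hinst hG
  rw [finrank_eq_zero_of_subsingleton h] at h1
  obtain ⟨m, rfl⟩ := Nat.exists_eq_add_of_le hd
  rw [show 3 + m - 1 = m + 2 by omega, show 3 + m - 2 = m + 1 by omega] at h1
  have : 2 ≤ (m + 2) * (m + 1) := by nlinarith
  omega

include hinst in
theorem deg_hyperplane_quartic (hd : d = 4) (hG : G ≠ 0) :
    Curv2.deg k (LefPen.hypIdeal G).subscheme (hyperplane G) 1 = 4 := by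
  haveI := isProper_curve G hinst
  have hdim := dim_le_one G hG
  have hdim1 := dim_eq_one G hinst (by omega) hG
  rw [Curv2.deg, euler_eq_h0_sub_h1 k _ hdim (hyperplane G),
    euler_eq_h0_sub_h1 k _ hdim (Coh.structureModule _),
    h0_hyperplane G hinst (by omega) hG, h1_hyperplane G hinst (by omega) hG,
    h0_structure G hinst (by omega) hG, h1_structure G hinst hG, hd]
  rfl

end Groth.PlaneCurve
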