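import Mathlib
import Groth.Agent.NeronArea.JacobianCriterion

/-!
# Smoothness of affine hypersurfaces
-/

set_option autoImplicit false
universe u

namespace Groth.PlaneCurve

open MvPolynomial

variable {k : Type u} [Field k] {n : ℕ}

/-- An affine hypersurface without singular points over an algebraically closed field is smooth. -/
theorem smooth_of_noSing (L : Type u) [Field L] [Algebra k L] [IsAlgClosed L]
    (F : MvPolynomial (Fin n) k)
    (h : ∀ φ : MvPolynomial (Fin n) k →ₐ[k] L, φ F = 0 → ∃ l, φ (pderiv l F) ≠ 0) :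
    Algebra.Smooth k (MvPolynomial (Fin n) k ⧸ Ideal.span {F}) := by
  classical
  let P := MvPolynomial (Fin n) k
  have hone : (1 : P) ∈ Ideal.span (insert F (Set.range fun l => pderiv l F)) := by
    rw [← Ideal.eq_top_iff_one]
    by_contra hne
    obtain ⟨M, hM, hle⟩ := Ideal.exists_le_maximal _ hne
    letI : Field (P ⧸ M) := Ideal.Quotient.field M
    haveI : Algebra.FiniteType k (P ⧸ M) :=
      Algebra.FiniteType.of_surjective (Ideal.Quotient.mkₐ k M) Ideal.Quotient.mk_surjective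
    haveI : Module.Finite k (P ⧸ M) := finite_of_finite_type_of_isJacobsonRing k _
    let φ : P →ₐ[k] L := (IsAlgClosed.lift : P ⧸ M →ₐ[k] L).comp (Ideal.Quotient.mkₐ k M)
    have hz : ∀ x ∈ M, φ x = 0 := fun x hx => by
      simp [φ, Ideal.Quotient.eq_zero_iff_mem.2 hx]
    obtain ⟨l, hl⟩ := h φ (hz _ (hle (Ideal.subset_span (Set.mem_insert _ _))))
    exact hl (hz _ (hle (Ideal.subset_span (Set.mem_insert_of_mem _ ⟨l, rfl⟩))))
  obtain ⟨c₀, z, hz, hc⟩ := Submodule.mem_span_insert.1 hone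
  obtain ⟨c, rfl⟩ := (Submodule.mem_span_range_iff_exists_fun _).1 hz
  simp only [smul_eq_mul] at hc
  have key : Algebra.Smooth k (P ⧸ Ideal.span (Set.range fun _ : Unit => F)) := by
    let Pr : Algebra.Presentation k (P ⧸ Ideal.span (Set.range fun _ : Unit => F)) (Fin n) Unit :=
      Algebra.Presentation.naive
    let π := Ideal.Quotient.mkₐ k (Ideal.span (Set.range fun _ : Unit => F))
    have hπ : MvPolynomial.aeval Pr.val = π := by
      refine MvPolynomial.algHom_ext fun i => ?_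
      rw [MvPolynomial.aeval_X]; rfl
    have hπF : π F = 0 := Ideal.Quotient.eq_zero_iff_mem.2 (Ideal.subset_span ⟨(), rfl⟩)
    refine { formallySmooth := ?_, finitePresentation := ?_ }
    · refine (Groth.NeronArea.Jacobian.formallySmooth_and_stablyFree Pr
        (Matrix.of fun _ i => π (c i)) ?_).1
      ext
      simp only [Matrix.mul_apply, Matrix.of_apply, Matrix.one_apply_eq, Pr,
        Algebra.Presentation.naive_relation] at hπ ⊢
      simp only [hπ]
      have := congrArg π hc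
      simpa [hπF] using this.symm
    · exact Algebra.FinitePresentation.quotient (Submodule.fg_span (Set.finite_range _))
  rwa [Set.range_const] at key

/-- A double root of the cubic obstructs the smoothness of `y² = x³ + a x - b`. -/
theorem not_formallySmooth_doubleRoot {L : Type u} [Field L] [Algebra k L] (a b : k) (x₀ : L)
    (h₀ : x₀ ^ 3 + algebraMap k L a * x₀ - algebraMap k L b = 0)
    (h₁ : 3 * x₀ ^ 2 + algebraMap k L a = 0) :
    ¬ Algebra.FormallySmooth k (MvPolynomial (Fin 2) k ⧸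
      Ideal.span {(X 1 ^ 2 - X 0 ^ 3 - C a * X 0 + C b : MvPolynomial (Fin 2) k)}) := by
  classical
  intro hsm
  set A := algebraMap k L a with hA
  set B := algebraMap k L b with hB
  let J : Ideal (Polynomial L) := Ideal.span {Polynomial.X ^ 3}
  let I : Ideal (Polynomial L ⧸ J) := Ideal.span {Ideal.Quotient.mk J (Polynomial.X ^ 2)}
  have hI : IsNilpotent I := by
    refine ⟨2, ?_⟩
    rw [Ideal.span_singleton_pow, ← map_pow, Ideal.zero_eq_bot, Ideal.span_singleton_eq_bot,
      Ideal.Quotient.eq_zero_iff_mem, Ideal.mem_span_singleton, ← pow_mul]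
    exact pow_dvd_pow _ (by norm_num)
  let mkI := (Ideal.Quotient.mkₐ k I).comp (Ideal.Quotient.mkₐ k J)
  let φ : MvPolynomial (Fin 2) k →ₐ[k] (Polynomial L ⧸ J) ⧸ I :=
    aeval ![mkI (Polynomial.C x₀), mkI Polynomial.X]
  set F : MvPolynomial (Fin 2) k := X 1 ^ 2 - X 0 ^ 3 - C a * X 0 + C b with hFdef
  have hmapC : ∀ r : k, algebraMap k (Polynomial L) r = Polynomial.C (algebraMap k L r) := fun r => rfl
  have hφ : ∀ x ∈ Ideal.span {F}, φ x = 0 := by
    intro x hx
    obtain ⟨y, rfl⟩ := Ideal.mem_span_singleton.1 hx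
    rw [map_mul]
    refine mul_eq_zero_of_left (a := φ F) ?_ _
    have e : φ F = mkI (Polynomial.X ^ 2 -
        (Polynomial.C x₀ ^ 3 + Polynomial.C A * Polynomial.C x₀ - Polynomial.C B)) := by
      simp only [φ, hFdef, map_add, map_sub, map_mul, map_pow, aeval_X, aeval_C, Matrix.cons_val_zero,
        Matrix.cons_val_one, ← mkI.commutes, hmapC, ← hA, ← hB]
      ring
    rw [e, ← Polynomial.C_pow, ← Polynomial.C_mul, ← Polynomial.C_add, ← Polynomial.C_sub, h₀,
      Polynomial.C_0, sub_zero]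
    exact Ideal.Quotient.eq_zero_iff_mem.2 (Ideal.subset_span rfl)
  obtain ⟨f, hf⟩ := Algebra.FormallySmooth.exists_lift I hI (Ideal.Quotient.liftₐ _ φ hφ)
  let mk := Ideal.Quotient.mkₐ k (Ideal.span {F})
  have key : ∀ (l : Fin 2) (s : Polynomial L), φ (X l) = mkI s →
      ∃ z : Polynomial L, f (mk (X l)) = Ideal.Quotient.mk J (s + Polynomial.X ^ 2 * z) := by
    intro l s hs
    obtain ⟨t, ht⟩ := Ideal.Quotient.mk_surjective (f (mk (X l)))
    have h1 : Ideal.Quotient.mk I (f (mk (X l))) = φ (X l) := AlgHom.congr_fun hf (mk (X l))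
    rw [hs, ← ht] at h1
    have h2 := Ideal.Quotient.eq.1 h1
    rw [Ideal.mem_span_singleton] at h2
    obtain ⟨w, hw⟩ := h2
    obtain ⟨w, rfl⟩ := Ideal.Quotient.mk_surjective w
    refine ⟨w, ?_⟩
    rw [← ht, map_add, map_mul, ← hw]
    exact (add_sub_cancel _ _).symm
  obtain ⟨z₀, hz₀⟩ := key 0 (Polynomial.C x₀) (by simp [φ])
  obtain ⟨z₁, hz₁⟩ := key 1 Polynomial.X (by simp [φ])
  have hF : f (mk F) = 0 := by
    rw [show mk F = 0 from Ideal.Quotient.eq_zero_iff_mem.2 (Ideal.subset_span rfl), map_zero]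
  rw [show f (mk F) = aeval ![f (mk (X 0)), f (mk (X 1))] F
    from AlgHom.congr_fun (MvPolynomial.algHom_ext (f := f.comp mk) (fun i => by fin_cases i <;> simp)) _] at hF
  have e : aeval ![f (mk (X 0)), f (mk (X 1))] F = Ideal.Quotient.mk J
      ((Polynomial.X + Polynomial.X ^ 2 * z₁) ^ 2 - (Polynomial.C x₀ + Polynomial.X ^ 2 * z₀) ^ 3 -
        Polynomial.C A * (Polynomial.C x₀ + Polynomial.X ^ 2 * z₀) + Polynomial.C B) := by
    simp only [hFdef, map_add, map_sub, map_mul, map_pow, aeval_X, aeval_C, Matrix.cons_val_zero,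
      Matrix.cons_val_one, hz₀, hz₁]
    rfl
  rw [e, Ideal.Quotient.eq_zero_iff_mem, Ideal.mem_span_singleton] at hF
  have h₀' : Polynomial.C x₀ ^ 3 + Polynomial.C A * Polynomial.C x₀ - Polynomial.C B = 0 := by
    rw [← Polynomial.C_pow, ← Polynomial.C_mul, ← Polynomial.C_add, ← Polynomial.C_sub, h₀,
      Polynomial.C_0]
  have h₁' : 3 * Polynomial.C x₀ ^ 2 + Polynomial.C A = 0 := by
    rw [show (3 : Polynomial L) = Polynomial.C 3 from (map_ofNat Polynomial.C 3).symm,
      ← Polynomial.C_pow, ← Polynomial.C_mul, ← Polynomial.C_add, h₁, Polynomial.C_0]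
  have h3 : (Polynomial.X : Polynomial L) ^ 3 ∣ Polynomial.X ^ 2 := by
    refine (dvd_add_left (a := Polynomial.X ^ 3) (b := Polynomial.X ^ 2) (c := Polynomial.X ^ 3 *
      (2 * z₁ + Polynomial.X * z₁ ^ 2 - 3 * Polynomial.C x₀ * Polynomial.X * z₀ ^ 2 -
        Polynomial.X ^ 3 * z₀ ^ 3)) (dvd_mul_right _ _)).1 ?_
    convert hF using 1
    linear_combination h₀' + (Polynomial.X ^ 2 * z₀) * h₁'
  rw [pow_succ] at h3
  have h4 : (Polynomial.X : Polynomial L) ∣ 1 :=
    (mul_dvd_mul_iff_left (pow_ne_zero 2 Polynomial.X_ne_zero)).1 (by rwa [mul_one])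
  exact Polynomial.not_isUnit_X (isUnit_of_dvd_one h4)

end Groth.PlaneCurve
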