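import Groth.Agent.PlaneCurve.HypIdeal
import Groth.Agent.PnCoh.Euler
import Groth.Agent.PnCoh.ProjectionFormula
import Groth.Agent.CohFin.PushAffine
import Groth.Agent.EulerDeg.Basic
import Groth.Agent.Curves1.RR.EtaleGenusZero
import Groth.Agent.Variety2.ProjDim
import Groth.Agent.Variety2.ProjBasics

/-!
# Cohomology of plane curves
-/

set_option linter.style.haveILetI false
set_option backward.isDefEq.respectTransparency.types false

universe u

open CategoryTheory CategoryTheory.Limits AlgebraicGeometry Opposite TopologicalSpace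
open Groth.PicAux Groth.EulerDeg

namespace Groth.PlaneCurve

variable {k : Type u} [Field k]

local notation "P²" => CohB1.ProjSpace 2 k

section Seq

variable {X : Scheme.{u}} [X.Over (Spec (CommRingCat.of k))] {S : ShortComplex X.Modules}

/-- In a short exact sequence with acyclic first term the other two have the same cohomology. -/
theorem finrank_mid_eq_right (hS : S.ShortExact) (i : ℕ) (h1 : Subsingleton (Coh.HH X S.X₁ i))
    (h2 : Subsingleton (Coh.HH X S.X₁ (i + 1))) :
    Module.finrank k (Coh.HH X S.X₂ i) = Module.finrank k (Coh.HH X S.X₃ i) := by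
  refine (LinearEquiv.ofBijective (hMap k S.g i) ⟨?_, fun y => ?_⟩).finrank_eq
  · refine (injective_iff_map_eq_zero _).2 fun x hx => ?_
    obtain ⟨z, rfl⟩ := (exact_mid k hS i x).1 hx
    rw [@Subsingleton.elim _ h1 z 0, map_zero]
  · exact (exact_right k hS i y).1 (@Subsingleton.elim _ h2 _ _)

/-- In a short exact sequence with acyclic middle term the cohomology of the quotient is that of
the subobject, shifted. -/
theorem finrank_right_eq_left (hS : S.ShortExact) (i : ℕ) (h1 : Subsingleton (Coh.HH X S.X₂ i))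
    (h2 : Subsingleton (Coh.HH X S.X₂ (i + 1))) :
    Module.finrank k (Coh.HH X S.X₃ i) = Module.finrank k (Coh.HH X S.X₁ (i + 1)) := by
  refine (LinearEquiv.ofBijective (hDelta k hS i) ⟨?_, fun y => ?_⟩).finrank_eq
  · refine (injective_iff_map_eq_zero _).2 fun x hx => ?_
    obtain ⟨z, rfl⟩ := (exact_right k hS i x).1 hx
    rw [@Subsingleton.elim _ h1 z 0, map_zero]
  · exact (exact_left k hS i y).1 (@Subsingleton.elim _ h2 _ _)

omit [X.Over (Spec (CommRingCat.of k))] in
theorem subsingleton_congr {M N : X.Modules} (e : M ≅ N) (n : ℕ) (h : Subsingleton (Coh.HH X N n)) :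
    Subsingleton (Coh.HH X M n) :=
  Function.Injective.subsingleton (f := Sheaf.H.map (abMap e.hom) n) fun a b hab => by
    have := congrArg (Sheaf.H.map (abMap e.inv) n) hab
    simpa only [← Sheaf.H.map_comp_apply, ← abMap_comp, e.hom_inv_id, abMap_id, Sheaf.H.map_id_apply]
      using this

end Seq

theorem isProper_toSpec (r : ℕ) : IsProper (CohB1.ProjSpace.toSpec r k) := inferInstance

/-- Cohomology of a direct image from a closed subscheme of projective space. -/
theorem finrank_push (J : (P²).IdealSheafData) [inst : J.subscheme.Over (Spec (CommRingCat.of k))]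
    (hinst : J.subscheme ↘ (Spec (CommRingCat.of k)) = J.subschemeι ≫ CohB1.ProjSpace.toSpec 2 k)
    (M : J.subscheme.Modules) [M.IsQuasicoherent] (i : ℕ) :
    Module.finrank k (Coh.HH J.subscheme M i) =
      Module.finrank k (Coh.HH (P²) ((Scheme.Modules.pushforward J.subschemeι).obj M) i) := by
  haveI : IsProper ((P²) ↘ Spec (CommRingCat.of k)) := isProper_toSpec 2
  haveI : IsProper (J.subscheme ↘ Spec (CommRingCat.of k)) := by
    rw [hinst]; infer_instance
  haveI : CompactSpace J.subscheme :=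
    QuasiCompact.compactSpace_of_compactSpace (J.subscheme ↘ Spec (CommRingCat.of k))
  haveI := Groth.HilbStab.BC.isSeparated_of_proper k J.subscheme
  haveI := Groth.HilbStab.BC.isSeparated_of_proper k (P²)
  obtain ⟨e⟩ := Groth.CohFin.nonempty_linearEquiv_push J.subschemeι
    ((P²) ↘ Spec (CommRingCat.of k)) i M
  have h := e.finrank_eq
  rw [show J.subschemeι ≫ ((P²) ↘ Spec (CommRingCat.of k)) = J.subscheme ↘ Spec (CommRingCat.of k)
    from hinst.symm] at h
  exact h.symm

theorem subsingleton_twist (e : ℤ) (q : ℕ) (h₀ : ¬ (q = 0 ∧ 0 ≤ e)) (h₂ : ¬ (q = 2 ∧ e ≤ -3)) :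
    Subsingleton (Coh.HH (P²) (Twist.twistProjSpace 2 k e) q) :=
  Groth.PnCoh.subsingleton_HH_twist e q h₀ (fun h => h₂ ⟨h.1, by omega⟩)

theorem finrank_h2_twist_neg (m : ℕ) :
    Module.finrank k (Coh.HH (P²) (Twist.twistProjSpace 2 k (-(3 + (m : ℤ)))) 2) = (2 + m).choose m := by
  have h := Groth.PnCoh.finrank_hTop (k := k) (r := 2) m
  have e : (-(3 + (m : ℤ))) = -(((2 : ℕ) : ℤ) + 1 + m) := by push_cast; ring
  rw [e]
  exact h

theorem finrank_h0_structure_plane :
    Module.finrank k (Coh.HH (P²) (Coh.structureModule (P²)) 0) = 1 := by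
  obtain ⟨e⟩ := Groth.PnCoh.nonempty_twist_zero_iso (CohB1.polyGrading 2 k)
  have h := Groth.PnCoh.finrank_h0 (k := k) (r := 2) 0
  exact (finrank_congr (k := k) (X := P²)
    (show Twist.twistProjSpace 2 k 0 ≅ Coh.structureModule (P²) from e) 0).symm.trans h

variable {d : ℕ} (G : LefPen.Form 2 k d)
  [inst : ((LefPen.hypIdeal G).subscheme).Over (Spec (CommRingCat.of k))]
  (hinst : (LefPen.hypIdeal G).subscheme ↘ (Spec (CommRingCat.of k)) =
    (LefPen.hypIdeal G).subschemeι ≫ CohB1.ProjSpace.toSpec 2 k)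

include hinst in
theorem h0_structure (hd : 1 ≤ d) (hG : G ≠ 0) :
    Module.finrank k (Coh.HH (LefPen.hypIdeal G).subscheme
      (Coh.structureModule (LefPen.hypIdeal G).subscheme) 0) = 1 := by
  obtain ⟨e⟩ := nonempty_idealMod_hypIdeal hG
  haveI : (Coh.structureModule (LefPen.hypIdeal G).subscheme).IsQuasicoherent :=
    isQCoh_structureModule _
  rw [finrank_push _ hinst]
  refine (finrank_mid_eq_right (shortExact_idealMod (LefPen.hypIdeal G)) 0 ?_ ?_).symm.trans
    finrank_h0_structure_plane
  · exact subsingleton_congr e 0 (subsingleton_twist _ _ (by omega) (by omega))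
  · exact subsingleton_congr e _ (subsingleton_twist _ _ (by omega) (by omega))

include hinst in
theorem h1_structure (hG : G ≠ 0) :
    Module.finrank k (Coh.HH (LefPen.hypIdeal G).subscheme
      (Coh.structureModule (LefPen.hypIdeal G).subscheme) 1) = (d - 1) * (d - 2) / 2 := by
  obtain ⟨e⟩ := nonempty_idealMod_hypIdeal hG
  haveI : (Coh.structureModule (LefPen.hypIdeal G).subscheme).IsQuasicoherent :=
    isQCoh_structureModule _
  rw [finrank_push _ hinst]
  refine (finrank_right_eq_left (shortExact_idealMod (LefPen.hypIdeal G)) 1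
    (Groth.PnCoh.subsingleton_HH_structureModule 2 k one_pos)
    (Groth.PnCoh.subsingleton_HH_structureModule 2 k two_pos)).trans ?_
  rw [finrank_congr (k := k) (X := P²) e (1 + 1)]
  by_cases h3 : 3 ≤ d
  · obtain ⟨m, rfl⟩ := Nat.exists_eq_add_of_le h3
    have e1 : (-((3 + m : ℕ) : ℤ)) = -(3 + (m : ℤ)) := by push_cast; ring
    rw [e1, finrank_h2_twist_neg, ← Nat.choose_symm_add, Nat.choose_two_right,
      show 3 + m - 1 = 2 + m by omega, show 3 + m - 2 = 2 + m - 1 by omega]
  · rw [finrank_eq_zero_of_subsingleton (subsingleton_twist _ _ (by omega) (by omega))]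
    interval_cases d <;> rfl

/-- The hyperplane class of a plane curve. -/
noncomputable abbrev hyperplane : (LefPen.hypIdeal G).subscheme.Modules :=
  (Scheme.Modules.pullback (LefPen.hypIdeal G).subschemeι).obj (Twist.twistProjSpace 2 k 1)

include hinst in
/-- The cohomology of the hyperplane class is that of `O(1) / O(1 - d)`. -/
theorem exists_twist_seq (hG : G ≠ 0) :
    ∃ (S : ShortComplex (P²).Modules), S.ShortExact ∧
      Nonempty (S.X₁ ≅ Twist.twistProjSpace 2 k (1 - (d : ℤ))) ∧
      Nonempty (S.X₂ ≅ Twist.twistProjSpace 2 k 1) ∧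
      ∀ i, Module.finrank k (Coh.HH (LefPen.hypIdeal G).subscheme (hyperplane G) i) =
        Module.finrank k (Coh.HH (P²) S.X₃ i) := by
  have hL : PicF.IsInvertible (Twist.twistProjSpace 2 k (1 : ℤ)) := isInvertible_twistProjSpace 1
  obtain ⟨e⟩ := nonempty_idealMod_hypIdeal hG
  refine ⟨_, shortExact_idealMod_twist (LefPen.hypIdeal G) hL, ?_, ?_, fun i => ?_⟩
  · obtain ⟨t⟩ := Groth.Ega2Proj.nonempty_tensor_iso (irrelevant_le (r := 2) (k := k)) (-(d : ℤ)) 1
    rw [show (1 - (d : ℤ)) = -(d : ℤ) + 1 by ring]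
    exact ⟨PicGrp.tensorModIso e (Iso.refl _) ≪≫ t⟩
  · obtain ⟨l, -⟩ := exists_leftUnitor (Twist.twistProjSpace 2 k (1 : ℤ))
    exact ⟨l⟩
  · haveI : (hyperplane G).IsQuasicoherent :=
      isQCoh_of_isInvertible (isInvertible_pullback _ hL)
    obtain ⟨l, -⟩ := exists_leftUnitor (hyperplane G)
    obtain ⟨π, -⟩ := Groth.PnCoh.exists_projectionFormula (LefPen.hypIdeal G).subschemeι
      (Coh.structureModule (LefPen.hypIdeal G).subscheme) hL
    rw [finrank_push _ hinst]
    exact (finrank_congr (k := k) (X := P²)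
      (π ≪≫ (Scheme.Modules.pushforward _).mapIso l) i).symm

include hinst in
/-- A plane curve of degree at least two spans the plane; the sections of the hyperplane class. -/
theorem h0_hyperplane (hd : 2 ≤ d) (hG : G ≠ 0) :
    Module.finrank k (Coh.HH (LefPen.hypIdeal G).subscheme (hyperplane G) 0) = 3 := by
  obtain ⟨S, hS, ⟨e1⟩, ⟨e2⟩, h⟩ := exists_twist_seq G hinst hG
  rw [h, ← finrank_mid_eq_right hS 0 (subsingleton_congr e1 0 (subsingleton_twist _ _ (by omega) (by omega)))
    (subsingleton_congr e1 _ (subsingleton_twist _ _ (by omega) (by omega))),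
    finrank_congr (k := k) (X := P²) e2 0]
  exact Groth.PnCoh.finrank_h0 (k := k) (r := 2) 1

include hinst in
theorem h1_hyperplane (hd : 4 ≤ d) (hG : G ≠ 0) :
    Module.finrank k (Coh.HH (LefPen.hypIdeal G).subscheme (hyperplane G) 1) = (d - 2).choose (d - 4) := by
  obtain ⟨S, hS, ⟨e1⟩, ⟨e2⟩, h⟩ := exists_twist_seq G hinst hG
  rw [h, finrank_right_eq_left hS 1 (subsingleton_congr e2 1 (subsingleton_twist _ _ (by omega) (by omega)))
    (subsingleton_congr e2 _ (subsingleton_twist _ _ (by omega) (by omega))),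
    finrank_congr (k := k) (X := P²) e1 (1 + 1)]
  obtain ⟨m, rfl⟩ := Nat.exists_eq_add_of_le hd
  have e3 : (1 - ((4 + m : ℕ) : ℤ)) = -(3 + (m : ℤ)) := by push_cast; ring
  rw [e3, finrank_h2_twist_neg, show 4 + m - 2 = 2 + m by omega, show 4 + m - 4 = m by omega]

end Groth.PlaneCurve
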