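import Groth.Agent.Curves1.CurveMor.Basic
import Groth.Agent.Limits.DegreeZero
import Groth.Agent.Ega4Algebra1.CMTensor
import Groth.Agent.S5091

/-!
# Proper curves whose only global functions are constants
-/

set_option linter.style.haveILetI false

universe u

open CategoryTheory CategoryTheory.Limits AlgebraicGeometry Opposite TopologicalSpace

namespace Groth.PlaneCurve.CurveH0

variable (k : Type u) [Field k] (X : Scheme.{u}) [X.Over (Spec (CommRingCat.of k))]

theorem isUnit_of_finrank_one (h0 : Module.finrank k (Coh.HH X (Coh.structureModule X) 0) = 1) :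
    Nontrivial Γ(X, ⊤) ∧ ∀ s : Γ(X, ⊤), s ≠ 0 → IsUnit s := by
  obtain ⟨e, he⟩ := Groth.Limits.FibreVanishing.exists_h0_equiv k X
  obtain ⟨v, hv0, hv⟩ := finrank_eq_one_iff'.1 h0
  obtain ⟨a₀, ha₀⟩ := hv (e.symm 1)
  have h1 := he a₀ v
  rw [ha₀, e.apply_symm_apply] at h1
  have hu : IsUnit (e v) := IsUnit.of_mul_eq_one_right _ h1.symm
  refine ⟨⟨e v, 0, fun h => hv0 (e.injective (by rw [h, map_zero]))⟩, fun s hs => ?_⟩
  obtain ⟨a, ha⟩ := hv (e.symm s)
  have h2 := he a v
  rw [ha, e.apply_symm_apply] at h2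
  rw [h2]
  refine IsUnit.mul ((Ne.isUnit ?_).map (Groth.Limits.FibreVanishing.globalMap k X)) hu
  rintro rfl
  exact hs (by rw [h2, map_zero, zero_mul])

variable {k X}

theorem connectedSpace (hnt : Nontrivial Γ(X, ⊤)) (hu : ∀ s : Γ(X, ⊤), s ≠ 0 → IsUnit s) :
    ConnectedSpace X := by
  rw [connectedSpace_iff_clopen]
  constructor
  · by_contra h
    rw [not_nonempty_iff] at h
    have : Subsingleton Γ(X, ⊤) := by
      refine ⟨fun a b => ?_⟩
      exact TopCat.Presheaf.section_ext X.sheaf _ _ _ fun x _ => isEmptyElim x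
    exact not_subsingleton Γ(X, ⊤) this
  intro s hs
  let U : X.Opens := ⟨s, hs.2⟩
  let V : X.Opens := ⟨sᶜ, hs.1.isOpen_compl⟩
  have hUV : ∀ x, x ∈ U ⊔ V := fun x => by
    by_cases hx : x ∈ s
    · exact Opens.mem_sup.2 (Or.inl hx)
    · exact Opens.mem_sup.2 (Or.inr hx)
  let W : Bool → X.Opens := fun b => if b then U else V
  let sf : ∀ b, Γ(X, W b) := fun b => if b then 1 else 0
  obtain ⟨g, hg, -⟩ := X.sheaf.existsUnique_gluing' W ⊤ (fun _ => homOfLE le_top) (by
      intro x _
      rcases Opens.mem_sup.1 (hUV x) with hx | hx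
      · exact Opens.mem_iSup.2 ⟨true, hx⟩
      · exact Opens.mem_iSup.2 ⟨false, hx⟩) sf (by
      intro a b
      refine TopCat.Presheaf.section_ext X.sheaf _ _ _ fun x hx => ?_
      cases a <;> cases b
      · rfl
      · exact absurd hx.2 hx.1
      · exact absurd hx.1 hx.2
      · rfl)
  by_cases h : g = 0
  · left
    refine Set.eq_empty_iff_forall_notMem.2 fun x hx => ?_
    have h1 := congrArg (X.presheaf.germ (W true) x hx) (hg true)
    exact zero_ne_one (α := X.presheaf.stalk x) ((map_zero (X.presheaf.germ (W true) x hx).hom).symm.trans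
      ((congrArg _ (map_zero (X.presheaf.map (homOfLE le_top).op).hom).symm).trans
        (((congrArg (fun z => X.presheaf.germ (W true) x hx (X.presheaf.map (homOfLE le_top).op z)) h.symm).trans
          (congrArg (X.presheaf.germ (W true) x hx) (hg true))).trans (map_one _))))
  · right
    refine Set.eq_univ_iff_forall.2 fun x => ?_
    by_contra hx
    have h1 := congrArg (X.presheaf.germ (W false) x hx) (hg false)
    have h2 := (hu g h).map (X.presheaf.germ ⊤ x trivial).hom
    have h3 : X.presheaf.germ ⊤ x trivial g = 0 := by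
      rw [← TopCat.Presheaf.germ_res_apply X.presheaf (homOfLE (le_top : W false ≤ ⊤)) x hx]
      refine h1.trans ?_
      simp [sf]
    exact h2.ne_zero h3

/-- A nonzero germ killed by the maximal ideal at a closed point is the only germ of a global
section. -/
theorem exists_global_section [IsLocallyNoetherian X] {x : X} (hx : IsClosed ({x} : Set X))
    {t : X.presheaf.stalk x}
    (hm : ∀ r ∈ IsLocalRing.maximalIdeal (X.presheaf.stalk x), r * t = 0) :
    ∃ g : Γ(X, ⊤), X.presheaf.germ ⊤ x trivial g = t ∧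
      ∀ y, y ≠ x → X.presheaf.germ ⊤ y trivial g = 0 := by
  classical
  obtain ⟨U₀, hxU₀, s₀, hs₀⟩ := TopCat.Presheaf.exists_germ_eq X.presheaf t
  obtain ⟨_, ⟨U, hU, rfl⟩, hxU, hle⟩ := X.isBasis_affineOpens.exists_subset_of_mem_open hxU₀ U₀.2
  let U' : X.affineOpens := ⟨U, hU⟩
  let s : Γ(X, U) := X.presheaf.map (homOfLE hle).op s₀
  have hs : X.presheaf.germ U x hxU s = t := by
    rw [← hs₀]; exact TopCat.Presheaf.germ_res_apply X.presheaf _ x hxU s₀
  let P : Ideal Γ(X, U) :=
    (IsLocalRing.maximalIdeal (X.presheaf.stalk x)).comap (X.presheaf.germ U x hxU).hom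
  have : IsNoetherianRing Γ(X, U) := IsLocallyNoetherian.component_noetherian U'
  obtain ⟨G, hG⟩ := IsNoetherian.noetherian P
  have hzero : ∀ a ∈ G, ∃ W : X.Opens, x ∈ W ∧ ∀ y (_ : y ∈ W) (hyU : y ∈ U),
      X.presheaf.germ U y hyU (a * s) = 0 := by
    intro a ha
    have haP : a ∈ P := hG ▸ Ideal.subset_span ha
    have h1 : X.presheaf.germ U x hxU (a * s) = X.presheaf.germ U x hxU 0 := by
      rw [map_mul, map_zero, hs]; exact hm _ haP
    obtain ⟨W, hxW, i₁, i₂, hW⟩ := X.presheaf.germ_eq x hxU hxU _ _ h1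
    refine ⟨W, hxW, fun y hy hyU => ?_⟩
    rw [← TopCat.Presheaf.germ_res_apply X.presheaf i₁ y hy, hW, map_zero, map_zero]
  choose W hxW hW using hzero
  let V : X.Opens := U ⊓ ⨅ a : (G : Set Γ(X, U)), W a.1 a.2
  have hVopen : ∀ y, y ∈ V ↔ y ∈ U ∧ ∀ a : (G : Set Γ(X, U)), y ∈ W a.1 a.2 := by
    intro y
    show y ∈ (U : Set X) ∩ _ ↔ _
    rw [Opens.coe_iInf]
    simp
  have hxV : x ∈ V := (hVopen x).2 ⟨hxU, fun a => hxW a.1 a.2⟩
  have hoff : ∀ y (hy : y ∈ V), y ≠ x →
      X.presheaf.germ U y ((hVopen y).1 hy).1 s = 0 := by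
    intro y hy hyx
    obtain ⟨hyU, hyW⟩ := (hVopen y).1 hy
    obtain ⟨a, ha1, ha2⟩ := hU.exists_basicOpen_le (V := ⟨(U : Set X) ∩ {x}ᶜ, U.2.inter hx.isOpen_compl⟩)
      ⟨y, hyU, hyx⟩ hyU
    have haP : a ∈ P := by
      rw [Ideal.mem_comap, IsLocalRing.mem_maximalIdeal, mem_nonunits_iff]
      intro hu
      exact (ha1 ((X.mem_basicOpen a x hxU).2 hu)).2 rfl
    obtain ⟨g, hgG, hgu⟩ : ∃ g ∈ G, IsUnit (X.presheaf.germ U y hyU g) := by
      by_contra! hall
      have hle' : P ≤ (IsLocalRing.maximalIdeal (X.presheaf.stalk y)).comap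
          (X.presheaf.germ U y hyU).hom := by
        rw [← hG, Ideal.span_le]
        intro g hg
        exact hall g hg
      exact hle' haP ((X.mem_basicOpen a y hyU).1 ha2)
    have h := hW g hgG y (hyW ⟨g, hgG⟩) hyU
    rw [map_mul] at h
    exact (hgu.mul_right_eq_zero).1 h
  let T : X.Opens := ⟨{x}ᶜ, hx.isOpen_compl⟩
  let C : Bool → X.Opens := fun b => if b then V else T
  let sf : ∀ b, Γ(X, C b) := fun b => Bool.rec (motive := fun b => Γ(X, C b)) (0 : Γ(X, T))
    (X.presheaf.map (homOfLE (inf_le_left : V ≤ U)).op s) b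
  have hgerm : ∀ b y (hy : y ∈ C b), X.presheaf.germ (C b) y hy (sf b) =
      if h : y = x then h.symm ▸ t else 0 := by
    rintro (_ | _) y hy
    · rw [dif_neg (show ¬y = x from hy)]; exact map_zero _
    · have e := TopCat.Presheaf.germ_res_apply X.presheaf (homOfLE (inf_le_left : V ≤ U)) y hy s
      refine e.trans ?_
      by_cases h : y = x
      · subst h; rw [dif_pos rfl]; exact hs
      · rw [dif_neg h]; exact hoff y hy h
  obtain ⟨g, hg, -⟩ := X.sheaf.existsUnique_gluing' C ⊤ (fun _ => homOfLE le_top) (by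
      intro y _
      by_cases h : y = x
      · exact Opens.mem_iSup.2 ⟨true, h ▸ hxV⟩
      · exact Opens.mem_iSup.2 ⟨false, h⟩) sf (by
      intro a b
      refine TopCat.Presheaf.section_ext X.sheaf _ _ _ fun y hy => ?_
      exact ((TopCat.Presheaf.germ_res_apply X.presheaf _ y hy (sf a)).trans
        ((hgerm a y hy.1).trans (hgerm b y hy.2).symm)).trans
          (TopCat.Presheaf.germ_res_apply X.presheaf _ y hy (sf b)).symm)
  have key : ∀ b y (hy : y ∈ C b), X.presheaf.germ ⊤ y trivial g =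
      if h : y = x then h.symm ▸ t else 0 := by
    intro b y hy
    rw [← hgerm b y hy, ← hg b]
    exact (TopCat.Presheaf.germ_res_apply X.presheaf (homOfLE (le_top : C b ≤ ⊤)) y hy g).symm
  exact ⟨g, (key true x hxV).trans (dif_pos rfl), fun y hy => (key false y hy).trans (dif_neg hy)⟩

theorem not_forall_isClosed (hdim : topologicalKrullDim X = 1) :
    ¬ ∀ x : X, IsClosed ({x} : Set X) := by
  intro h
  rw [Groth.Variety2.Dim.dim_eq_iSup_height] at hdim
  have : (⨆ x : X, ((Order.height x : ℕ∞) : WithBot ℕ∞)) ≤ 0 := iSup_le fun x => by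
    rw [(Groth.Variety2.Dim.height_eq_zero_iff x).2 (h x)]; rfl
  rw [hdim] at this
  exact absurd this (by decide)

variable (k X) in
/-- A proper scheme of dimension one with constant global functions is connected, Cohen–Macaulay
and pure of dimension one. -/
theorem main [IsProper (X ↘ Spec (CommRingCat.of k))] (hdim : topologicalKrullDim X = 1)
    (h0 : Module.finrank k (Coh.HH X (Coh.structureModule X) 0) = 1) :
    ConnectedSpace X ∧ (∀ x : X, LocCoh.IsCohenMacaulayLocalRing (X.presheaf.stalk x)) ∧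
      ∀ Z ∈ irreducibleComponents (X : Type u), topologicalKrullDim Z = 1 := by
  have : IsLocallyNoetherian X :=
    LocallyOfFiniteType.isLocallyNoetherian (X ↘ Spec (CommRingCat.of k))
  have : CompactSpace X :=
    QuasiCompact.compactSpace_of_compactSpace (X ↘ Spec (CommRingCat.of k))
  have : IsNoetherian X := {}
  obtain ⟨hnt, hu⟩ := isUnit_of_finrank_one k X h0
  have hc := connectedSpace hnt hu
  have hsing : ∀ x : X, IsClosed ({x} : Set X) → ¬ ∀ y : X, y = x := fun x hx h =>
    not_forall_isClosed hdim fun y => h y ▸ hx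
  refine ⟨hc, fun x => ?_, fun Z hZ => ?_⟩
  · by_cases hx : IsClosed ({x} : Set X)
    · rw [Groth.Calg4.isCohenMacaulayLocalRing_iff_dim_eq]
      have h1 : (1 : ℕ∞) ≤ LocCoh.depth (X.presheaf.stalk x) (X.presheaf.stalk x) := by
        rw [Groth.Agent.S5091.one_le_depth_iff, isAssociatedPrime_iff]
        rintro ⟨-, t, ht⟩
        have hm : ∀ r ∈ IsLocalRing.maximalIdeal (X.presheaf.stalk x), r * t = 0 := fun r hr => by
          rw [ht] at hr
          simpa [Submodule.mem_colon_singleton] using hr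
        obtain ⟨g, hgx, hgy⟩ := exists_global_section hx hm
        have ht0 : t ≠ 0 := by
          rintro rfl
          refine (IsLocalRing.maximalIdeal.isMaximal (X.presheaf.stalk x)).ne_top ?_
          rw [ht, Ideal.eq_top_iff_one]
          simp [Submodule.mem_colon_singleton]
        have hg0 : g ≠ 0 := fun h => ht0 (by rw [← hgx, h, map_zero])
        refine hsing x hx fun y => ?_
        by_contra hy
        exact ((hu g hg0).map (X.presheaf.germ ⊤ y trivial).hom).ne_zero (hgy y hy)
      refine le_antisymm ((Curves1.CurveMor.ringKrullDim_stalk_le_one hdim.le x).trans ?_)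
        (Groth.Calg4.depth_le_ringKrullDim _)
      exact_mod_cast h1
    · have hmax := (Curves1.CurveMor.isMax_and_height_of_not_isClosed
        (X ↘ Spec (CommRingCat.of k)) hdim.le hx).1
      have : Ring.KrullDimLE 0 (X.presheaf.stalk x) := by
        rw [Ring.krullDimLE_iff, ringKrullDim_stalk_eq_coheight, Order.coheight_eq_zero.2 hmax]
        rfl
      exact Groth.Ega4Algebra1.isCohenMacaulayLocalRing_of_krullDimLE_zero _
  · obtain ⟨η, hη⟩ := QuasiSober.sober hZ.1 (isClosed_of_mem_irreducibleComponents Z hZ)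
    subst hη
    rw [Groth.Variety2.Dim.dim_closure_singleton]
    refine congrArg _ (le_antisymm (Curves1.CurveMor.height_le_one hdim.le η)
      (Order.one_le_iff_ne_zero.2 fun h => ?_))
    have hη := (Groth.Variety2.Dim.height_eq_zero_iff η).1 h
    rw [hη.closure_eq] at hZ
    obtain ⟨o, ho, hone, hle⟩ :=
      NoetherianSpace.exists_isOpen_nonempty_subset_irreducibleComponent {η} hZ
    have ho' : o = {η} := (Set.subset_singleton_iff_eq.1 hle).resolve_left hone.ne_empty
    have := (isClopen_iff.1 (⟨hη, ho' ▸ ho⟩ : IsClopen ({η} : Set X))).resolve_left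
      (Set.singleton_ne_empty η)
    exact hsing η hη fun y => Set.mem_singleton_iff.1 (this.symm ▸ Set.mem_univ y)

end Groth.PlaneCurve.CurveH0
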