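import Groth.Agent.Curves1.Hurwitz.Global
import Groth.Agent.CurveBridge.SmoothCurve
import Groth.Agent.CurveBridge.Main
import Groth.Agent.LocImm.Birational
import Groth.Agent.RefRank.Normality

/-!
A separable morphism of curves of the same genus `≥ 2` is an isomorphism.
-/

set_option autoImplicit false
set_option linter.style.haveILetI false
set_option synthInstance.maxHeartbeats 400000
set_option backward.isDefEq.respectTransparency.types false

universe u

open CategoryTheory Limits AlgebraicGeometry Opposite TopologicalSpace IsLocalRing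
open Groth.RefRank
open scoped Groth.CurveBridge

namespace Groth.PlaneCurve.HurwitzEqual

theorem isIso_of_genus_eq (k : Type u) [Field k] [IsAlgClosed k]
    (X : Scheme.{u}) [X.Over (Spec (CommRingCat.of k))] [IsIntegral X]
    [IsProper (X ↘ (Spec (CommRingCat.of k)))] [Smooth (X ↘ (Spec (CommRingCat.of k)))]
    (hdimX : topologicalKrullDim X = 1)
    (Y : Scheme.{u}) [Y.Over (Spec (CommRingCat.of k))] [IsIntegral Y]
    [IsProper (Y ↘ (Spec (CommRingCat.of k)))] [Smooth (Y ↘ (Spec (CommRingCat.of k)))]
    (hdimY : topologicalKrullDim Y = 1)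
    (f : X ⟶ Y) [IsFinite f] (hf : f ≫ (Y ↘ (Spec (CommRingCat.of k))) = (X ↘ (Spec (CommRingCat.of k))))
    (e : f (genericPoint X) = genericPoint Y)
    (hg : Curv2.genus k X = Curv2.genus k Y) (h2 : 2 ≤ Curv2.genus k Y)
    (hsep : letI := ((Y.presheaf.stalkSpecializes (specializes_of_eq e) ≫
        f.stalkMap (genericPoint X)).hom).toAlgebra
      Algebra.IsSeparable Y.functionField X.functionField) : IsIso f := by
  haveI : Surjective f := ⟨Set.range_eq_univ.mp (Set.eq_univ_of_univ_subset fun y _ =>
    (genericPoint_specializes y).mem_closed f.isClosedMap.isClosed_range ⟨_, e⟩)⟩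
  have hX := Groth.CurveBridge.isRegCurve_of_smooth k X hdimX
  have hY := Groth.CurveBridge.isRegCurve_of_smooth k Y hdimY
  have hnX := Groth.RefRank.isNormalScheme_of_regular hX.reg
  have hnY := Groth.RefRank.isNormalScheme_of_regular hY.reg
  obtain ⟨d, T, -, -, -, hsum⟩ :=
    Groth.Curves1.Hurwitz.exists_hurwitz k f hf hdimX hdimY hnX hnY hsep
  rw [Groth.CurveBridge.euler_structure hX (Groth.CurveBridge.isFunctionField (k := k) (X := X) hdimX),
    Groth.CurveBridge.euler_structure hY (Groth.CurveBridge.isFunctionField (k := k) (X := Y) hdimY),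
    hg] at hsum
  have hnn : (0 : ℤ) ≤ ∑ x ∈ T, ((X ↘ Spec (CommRingCat.of k)).residueDegree x : ℤ) * (d x : ℤ) :=
    Finset.sum_nonneg fun x _ => by positivity
  have hpos := ffDeg_pos f
  have hn : ffDeg f = 1 := by
    by_contra hne
    have h2' : (2 : ℤ) ≤ ffDeg f := by omega
    nlinarith [(by exact_mod_cast h2 : (2 : ℤ) ≤ Curv2.genus k Y)]
  letI := ((Y.presheaf.stalkSpecializes (specializes_of_eq e) ≫
        f.stalkMap (genericPoint X)).hom).toAlgebra
  have hfr : Module.finrank Y.functionField X.functionField = 1 := hn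
  haveI : FiniteDimensional Y.functionField X.functionField := Module.finite_of_finrank_pos (by omega)
  have hbij : Function.Bijective (algebraMap Y.functionField X.functionField) := by
    refine ⟨RingHom.injective _, fun z => ?_⟩
    have hbt := Subalgebra.bot_eq_top_of_finrank_eq_one (F := Y.functionField) (E := X.functionField) hfr
    exact Algebra.mem_bot.mp (hbt.symm ▸ Algebra.mem_top (x := z))
  haveI : IsIso (Y.presheaf.stalkSpecializes (specializes_of_eq e) ≫ f.stalkMap (genericPoint X)) :=
    (ConcreteCategory.isIso_iff_bijective _).mpr hbij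
  haveI : IsIso (Y.presheaf.stalkSpecializes (specializes_of_eq e)) :=
    (TopCat.Presheaf.stalkCongr Y.presheaf (Inseparable.of_eq e)).isIso_inv
  exact Groth.LocImmersion.BirationalNormal.isIso_of_isIntegralHom (fun y => (hnY y).2) f e
    (IsIso.of_isIso_comp_left (Y.presheaf.stalkSpecializes (specializes_of_eq e)) _)

end Groth.PlaneCurve.HurwitzEqual
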