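import Mathlib
import Groth.Agent.ArtfunDeform.PowerSeries
import Groth.Agent.Calg6.PowerSeries
import Groth.Agent.SGA7.PowerSeries

/-!
Normal form of a flat deformation of a nondegenerate binary quadric: a complete Noetherian local
algebra `B`, flat over a complete Noetherian local ring `A`, whose closed fibre is
`k[[u,v]]/(q)` is `A[[u,v]]/(Q - h)` for some `h` in the maximal ideal of `A`.
-/

set_option autoImplicit false
set_option linter.style.longLine false

universe u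

open MvPowerSeries Groth.SGA7.PS

namespace Groth.PlaneCurve.NodeCpl

local notation "𝔪" => IsLocalRing.maximalIdeal

/-- The binary quadratic form `a u^2 + b uv + c v^2` in power series. -/
noncomputable def qf {A : Type u} [CommRing A] (a b c : A) : MvPowerSeries (Fin 2) A :=
  C a * X 0 ^ 2 + C b * X 0 * X 1 + C c * X 1 ^ 2

lemma constantCoeff_qf {A : Type u} [CommRing A] (a b c : A) : constantCoeff (qf a b c) = 0 := by
  simp [qf]

lemma map_qf {A A' : Type u} [CommRing A] [CommRing A'] (ρ : A →+* A') (a b c : A) :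
    MvPowerSeries.map ρ (qf a b c) = qf (ρ a) (ρ b) (ρ c) := by
  simp [qf, map_X, map_C]

/-- The value of the quadratic form. -/
def qv {B : Type u} [CommRing B] (a b c U V : B) : B := a * U ^ 2 + b * U * V + c * V ^ 2

section

variable {A B k : Type u} [CommRing A] [CommRing B] [Field k] [IsLocalRing A] [IsLocalRing B]
  [IsNoetherianRing A] [IsNoetherianRing B] [IsAdicComplete (𝔪 A) A] [IsAdicComplete (𝔪 B) B]
  [Algebra A B] [IsLocalHom (algebraMap A B)]
  (ρ : A →+* k) (a b c : A)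
  (π : B →+* MvPowerSeries (Fin 2) k ⧸ Ideal.span {qf (ρ a) (ρ b) (ρ c)})

/-- Evaluation of the fibre at the closed point. -/
noncomputable def ev : MvPowerSeries (Fin 2) k ⧸ Ideal.span {qf (ρ a) (ρ b) (ρ c)} →+* k :=
  Ideal.Quotient.lift _ constantCoeff (fun x hx => by
    obtain ⟨y, rfl⟩ := Ideal.mem_span_singleton'.1 hx
    rw [map_mul, constantCoeff_qf, mul_zero])

omit [IsLocalRing A] [IsNoetherianRing A] [IsAdicComplete (𝔪 A) A] in
lemma mem_maximal_iff (hπ : Function.Surjective π) (x : B) :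
    x ∈ 𝔪 B ↔ ev ρ a b c (π x) = 0 := by
  have hs : Function.Surjective ((ev ρ a b c).comp π) := fun r => by
    obtain ⟨y, hy⟩ := hπ (Ideal.Quotient.mk _ (C r))
    exact ⟨y, by simp [hy, ev]⟩
  rw [← IsLocalRing.eq_maximalIdeal (RingHom.ker_isMaximal_of_surjective _ hs)]
  rfl

omit [IsLocalHom (algebraMap A B)] [IsAdicComplete (𝔪 A) A] [IsAdicComplete (𝔪 B) B]
  [IsNoetherianRing B] [IsLocalRing B] [IsNoetherianRing A] in
lemma decomp (hρ : Function.Surjective ρ) (hπ : Function.Surjective π)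
    (hker : RingHom.ker π = (𝔪 A).map (algebraMap A B))
    (hC : ∀ r : A, π (algebraMap A B r) = Ideal.Quotient.mk _ (C (ρ r))) {U V : B}
    (hU : π U = Ideal.Quotient.mk _ (X 0)) (hV : π V = Ideal.Quotient.mk _ (X 1)) (x : B) :
    ∃ (r : A) (α β : B), x - (algebraMap A B r + α * U + β * V) ∈ (𝔪 A).map (algebraMap A B) := by
  obtain ⟨p, hp⟩ := Ideal.Quotient.mk_surjective (π x)
  obtain ⟨h, hh, -⟩ := exists_sum_X_mul (p - C (constantCoeff p)) (by simp)
  obtain ⟨r, hr⟩ := hρ (constantCoeff p)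
  obtain ⟨α, hα⟩ := hπ (Ideal.Quotient.mk _ (h 0))
  obtain ⟨β, hβ⟩ := hπ (Ideal.Quotient.mk _ (h 1))
  refine ⟨r, α, β, ?_⟩
  rw [← hker, RingHom.mem_ker, map_sub, map_add, map_add, map_mul, map_mul, hC, hr, hU, hV, hα, hβ,
    ← hp, sub_eq_zero, ← map_mul, ← map_mul, ← map_add, ← map_add]
  congr 1
  rw [Fin.sum_univ_two] at hh
  linear_combination hh

omit [IsLocalHom (algebraMap A B)] [IsAdicComplete (𝔪 A) A] [IsAdicComplete (𝔪 B) B]
  [IsNoetherianRing B] [IsLocalRing B] in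
lemma decomp_pow (hρ : Function.Surjective ρ) (hπ : Function.Surjective π)
    (hker : RingHom.ker π = (𝔪 A).map (algebraMap A B))
    (hC : ∀ r : A, π (algebraMap A B r) = Ideal.Quotient.mk _ (C (ρ r))) {U V : B}
    (hU : π U = Ideal.Quotient.mk _ (X 0)) (hV : π V = Ideal.Quotient.mk _ (X 1)) (n : ℕ) {e : B}
    (he : e ∈ ((𝔪 A).map (algebraMap A B)) ^ n) :
    ∃ (r : A) (α β : B), r ∈ 𝔪 A ^ n ∧ α ∈ ((𝔪 A).map (algebraMap A B)) ^ n ∧
      β ∈ ((𝔪 A).map (algebraMap A B)) ^ n ∧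
      e - (algebraMap A B r + α * U + β * V) ∈ ((𝔪 A).map (algebraMap A B)) ^ (n + 1) := by
  obtain ⟨N, m, hm⟩ := Submodule.fg_iff_exists_fin_generating_family.mp
    (IsNoetherian.noetherian (𝔪 A ^ n))
  have hmem : ∀ i, algebraMap A B (m i) ∈ ((𝔪 A).map (algebraMap A B)) ^ n := fun i => by
    rw [← Ideal.map_pow]
    exact Ideal.mem_map_of_mem _ (hm ▸ Submodule.subset_span ⟨i, rfl⟩)
  rw [← Ideal.map_pow, show 𝔪 A ^ n = Ideal.span (Set.range m) from hm.symm, Ideal.map_span,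
    ← Set.range_comp, Ideal.mem_span_range_iff_exists_fun] at he
  obtain ⟨x, rfl⟩ := he
  choose r α β hd using fun i => decomp ρ a b c π hρ hπ hker hC hU hV (x i)
  refine ⟨∑ i, r i * m i, ∑ i, α i * algebraMap A B (m i), ∑ i, β i * algebraMap A B (m i),
    Ideal.sum_mem _ fun i _ => Ideal.mul_mem_left _ _ (hm ▸ Submodule.subset_span ⟨i, rfl⟩),
    Ideal.sum_mem _ fun i _ => Ideal.mul_mem_left _ _ (hmem i),
    Ideal.sum_mem _ fun i _ => Ideal.mul_mem_left _ _ (hmem i), ?_⟩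
  have : ∑ i, x i * (algebraMap A B ∘ m) i - (algebraMap A B (∑ i, r i * m i) +
      (∑ i, α i * algebraMap A B (m i)) * U + (∑ i, β i * algebraMap A B (m i)) * V) =
      ∑ i, (x i - (algebraMap A B (r i) + α i * U + β i * V)) * algebraMap A B (m i) := by
    simp only [map_sum, map_mul, Finset.sum_mul, ← Finset.sum_add_distrib, ← Finset.sum_sub_distrib,
      Function.comp_apply]
    exact Finset.sum_congr rfl fun i _ => by ring
  rw [this, pow_succ']
  exact Ideal.sum_mem _ fun i _ => Ideal.mul_mem_mul (hd i) (hmem i)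

omit [IsLocalHom (algebraMap A B)] [IsAdicComplete (𝔪 A) A] [IsAdicComplete (𝔪 B) B]
  [IsNoetherianRing B] [IsLocalRing B] in
lemma step (hρ : Function.Surjective ρ) (hπ : Function.Surjective π)
    (hker : RingHom.ker π = (𝔪 A).map (algebraMap A B))
    (hC : ∀ r : A, π (algebraMap A B r) = Ideal.Quotient.mk _ (C (ρ r)))
    (hd : IsUnit (b ^ 2 - 4 * a * c)) {U V : B} {h : A}
    (hU : π U = Ideal.Quotient.mk _ (X 0)) (hV : π V = Ideal.Quotient.mk _ (X 1)) {n : ℕ}
    (hn : 1 ≤ n) (hh : h ∈ 𝔪 A)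
    (he : qv (algebraMap A B a) (algebraMap A B b) (algebraMap A B c) U V - algebraMap A B h ∈
      ((𝔪 A).map (algebraMap A B)) ^ n) :
    ∃ (U' V' : B) (h' : A), π U' = Ideal.Quotient.mk _ (X 0) ∧ π V' = Ideal.Quotient.mk _ (X 1) ∧
      h' ∈ 𝔪 A ∧ U - U' ∈ ((𝔪 A).map (algebraMap A B)) ^ n ∧
      V - V' ∈ ((𝔪 A).map (algebraMap A B)) ^ n ∧ h - h' ∈ 𝔪 A ^ n ∧
      qv (algebraMap A B a) (algebraMap A B b) (algebraMap A B c) U' V' - algebraMap A B h' ∈
        ((𝔪 A).map (algebraMap A B)) ^ (n + 1) := by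
  set I := (𝔪 A).map (algebraMap A B) with hI
  obtain ⟨r, α, β, hr, hα, hβ, hres⟩ := decomp_pow ρ a b c π hρ hπ hker hC hU hV n he
  obtain ⟨w, hw⟩ := hd.exists_right_inv
  set a' := algebraMap A B a
  set b' := algebraMap A B b
  set c' := algebraMap A B c
  have hw' : (b' ^ 2 - 4 * a' * c') * algebraMap A B w = 1 := by
    have := congrArg (algebraMap A B) hw
    simpa [map_mul, map_sub, map_pow, map_ofNat] using this
  set α' := algebraMap A B w * (b' * β - 2 * c' * α) with hα'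
  set β' := algebraMap A B w * (b' * α - 2 * a' * β) with hβ'
  have hα'm : α' ∈ I ^ n :=
    Ideal.mul_mem_left _ _ (sub_mem (Ideal.mul_mem_left _ _ hβ) (Ideal.mul_mem_left _ _ hα))
  have hβ'm : β' ∈ I ^ n :=
    Ideal.mul_mem_left _ _ (sub_mem (Ideal.mul_mem_left _ _ hα) (Ideal.mul_mem_left _ _ hβ))
  have hle : I ^ n ≤ RingHom.ker π := by
    rw [hker]; exact Ideal.pow_le_self (by omega)
  refine ⟨U - α', V - β', h + r, ?_, ?_, ?_, ?_, ?_, ?_, ?_⟩
  · rw [map_sub, show π α' = 0 from hle hα'm, sub_zero, hU]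
  · rw [map_sub, show π β' = 0 from hle hβ'm, sub_zero, hV]
  · exact add_mem hh (Ideal.pow_le_self (by omega) hr)
  · simpa using hα'm
  · simpa using hβ'm
  · simpa using hr
  · have key : qv a' b' c' (U - α') (V - β') - algebraMap A B (h + r) =
        (qv a' b' c' U V - algebraMap A B h - (algebraMap A B r + α * U + β * V)) +
          qv a' b' c' α' β' := by
      rw [hα', hβ', map_add]
      unfold qv
      linear_combination (-(α * U) - β * V) * hw'
    rw [key]
    refine add_mem hres (Ideal.pow_le_pow_right (show n + 1 ≤ n + n by omega) ?_)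
    rw [pow_add]
    have h1 : ∀ x y : B, x ∈ I ^ n → y ∈ I ^ n → x * y ∈ I ^ n * I ^ n :=
      fun x y hx hy => Ideal.mul_mem_mul hx hy
    unfold qv
    rw [sq, sq, mul_assoc b']
    exact add_mem (add_mem (Ideal.mul_mem_left _ _ (h1 _ _ hα'm hα'm))
      (Ideal.mul_mem_left _ _ (h1 _ _ hα'm hβ'm))) (Ideal.mul_mem_left _ _ (h1 _ _ hβ'm hβ'm))

/-- The form splits off: there are coordinates with `Q(U, V) = h`. -/
lemma exists_coords (hρ : Function.Surjective ρ) (hπ : Function.Surjective π)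
    (hker : RingHom.ker π = (𝔪 A).map (algebraMap A B))
    (hC : ∀ r : A, π (algebraMap A B r) = Ideal.Quotient.mk _ (C (ρ r)))
    (hd : IsUnit (b ^ 2 - 4 * a * c)) :
    ∃ (U V : B) (h : A), π U = Ideal.Quotient.mk _ (X 0) ∧ π V = Ideal.Quotient.mk _ (X 1) ∧
      h ∈ 𝔪 A ∧
      qv (algebraMap A B a) (algebraMap A B b) (algebraMap A B c) U V = algebraMap A B h := by
  classical
  set I := (𝔪 A).map (algebraMap A B) with hI
  obtain ⟨U₀, hU₀⟩ := hπ (Ideal.Quotient.mk _ (X 0))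
  obtain ⟨V₀, hV₀⟩ := hπ (Ideal.Quotient.mk _ (X 1))
  let P : ℕ → B × B × A → Prop := fun n p =>
    π p.1 = Ideal.Quotient.mk _ (X 0) ∧ π p.2.1 = Ideal.Quotient.mk _ (X 1) ∧ p.2.2 ∈ 𝔪 A ∧
      qv (algebraMap A B a) (algebraMap A B b) (algebraMap A B c) p.1 p.2.1 - algebraMap A B p.2.2 ∈
        I ^ (n + 1)
  have h0 : P 0 (U₀, V₀, 0) := by
    refine ⟨hU₀, hV₀, zero_mem _, ?_⟩
    rw [zero_add, pow_one, map_zero, sub_zero, ← hker, RingHom.mem_ker]
    simp only [qv, map_add, map_mul, map_pow, hC, hU₀, hV₀]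
    rw [← map_pow, ← map_pow, ← map_mul, ← map_mul, ← map_mul, ← map_mul, ← map_add, ← map_add,
      Ideal.Quotient.eq_zero_iff_mem]
    exact Ideal.mem_span_singleton_self _
  have hs : ∀ n, ∀ p : {p // P n p}, ∃ q : {q // P (n + 1) q}, p.1.1 - q.1.1 ∈ I ^ (n + 1) ∧
      p.1.2.1 - q.1.2.1 ∈ I ^ (n + 1) ∧ p.1.2.2 - q.1.2.2 ∈ 𝔪 A ^ (n + 1) := by
    rintro n ⟨⟨U, V, h⟩, hU, hV, hh, he⟩
    obtain ⟨U', V', h', hU', hV', hh', d1, d2, d3, he'⟩ :=
      step ρ a b c π hρ hπ hker hC hd hU hV (Nat.le_add_left 1 n) hh he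
    exact ⟨⟨(U', V', h'), hU', hV', hh', he'⟩, d1, d2, d3⟩
  choose next hnext using hs
  let s : ∀ n, {p // P n p} := fun n => Nat.rec ⟨_, h0⟩ (fun n p => next n p) n
  have hle : I ≤ 𝔪 B := ((IsLocalRing.local_hom_TFAE (algebraMap A B)).out 0 2).mp ‹_›
  -- telescoping
  have tel : ∀ {M : Type u} [CommRing M] (J : Ideal M) (f : ℕ → M),
      (∀ n, f n - f (n + 1) ∈ J ^ (n + 1)) → ∀ (i j : ℕ), i ≤ j → f i - f j ∈ J ^ i := by
    intro M _ J f hf i j hij
    induction hij with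
    | refl => simp
    | @step j hij ih =>
      rw [← sub_add_sub_cancel (f i) (f j) (f (j + 1))]
      have hij' : i ≤ j + 1 := Nat.le_succ_of_le hij
      exact add_mem ih (Ideal.pow_le_pow_right hij' (hf j))
  have tU := tel I (fun n => (s n).1.1) (fun n => (hnext n (s n)).1)
  have tV := tel I (fun n => (s n).1.2.1) (fun n => (hnext n (s n)).2.1)
  have th := tel (𝔪 A) (fun n => (s n).1.2.2) (fun n => (hnext n (s n)).2.2)
  obtain ⟨U, hU⟩ := IsPrecomplete.prec' (I := 𝔪 B) (M := B) (fun n => (s n).1.1) (fun {i j} hij => by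
    rw [SModEq.sub_mem, smul_eq_mul, Ideal.mul_top]
    exact Ideal.pow_right_mono hle i (tU i j hij))
  obtain ⟨V, hV⟩ := IsPrecomplete.prec' (I := 𝔪 B) (M := B) (fun n => (s n).1.2.1) (fun {i j} hij => by
    rw [SModEq.sub_mem, smul_eq_mul, Ideal.mul_top]
    exact Ideal.pow_right_mono hle i (tV i j hij))
  obtain ⟨h, hh⟩ := IsPrecomplete.prec' (I := 𝔪 A) (M := A) (fun n => (s n).1.2.2) (fun {i j} hij => by
    rw [SModEq.sub_mem, smul_eq_mul, Ideal.mul_top]
    exact th i j hij)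
  simp only [SModEq.sub_mem, smul_eq_mul, Ideal.mul_top] at hU hV hh
  haveI : Nontrivial (MvPowerSeries (Fin 2) k ⧸ Ideal.span {qf (ρ a) (ρ b) (ρ c)}) :=
    (ev ρ a b c).domain_nontrivial
  haveI := IsLocalRing.of_surjective' π hπ
  haveI : IsLocalHom π := IsLocalHom.of_surjective π hπ
  haveI : IsNoetherianRing (MvPowerSeries (Fin 2) k ⧸ Ideal.span {qf (ρ a) (ρ b) (ρ c)}) :=
    isNoetherianRing_of_surjective B _ π hπ
  have hpi : ∀ {W : B} {t}, (∀ n : ℕ, ∃ W' : B, π W' = t ∧ W' - W ∈ 𝔪 B ^ n) → π W = t := by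
    intro W t hW
    refine sub_eq_zero.1 (IsHausdorff.haus' (I := 𝔪 (MvPowerSeries (Fin 2) k ⧸
      Ideal.span {qf (ρ a) (ρ b) (ρ c)})) _ fun n => ?_)
    rw [SModEq.zero, smul_eq_mul, Ideal.mul_top]
    obtain ⟨W', h1, h2⟩ := hW n
    rw [← h1, ← map_sub, ← neg_sub, map_neg]
    refine neg_mem (Ideal.pow_right_mono
      (((IsLocalRing.local_hom_TFAE π).out 0 2).mp ‹_›) n ?_)
    rw [← Ideal.map_pow]
    exact Ideal.mem_map_of_mem π h2
  refine ⟨U, V, h, hpi fun n => ⟨_, (s n).2.1, hU n⟩,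
    hpi fun n => ⟨_, (s n).2.2.1, hV n⟩, ?_, ?_⟩
  · have := hh 1
    rw [pow_one] at this
    simpa using sub_mem (s 1).2.2.2.1 this
  · refine sub_eq_zero.1 (IsHausdorff.haus' (I := 𝔪 B) _ fun n => ?_)
    rw [SModEq.zero, smul_eq_mul, Ideal.mul_top, ← Ideal.Quotient.eq_zero_iff_mem]
    have e1 : Ideal.Quotient.mk (𝔪 B ^ n) (s n).1.1 = Ideal.Quotient.mk _ U :=
      Ideal.Quotient.eq.2 (hU n)
    have e2 : Ideal.Quotient.mk (𝔪 B ^ n) (s n).1.2.1 = Ideal.Quotient.mk _ V :=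
      Ideal.Quotient.eq.2 (hV n)
    have e3 : Ideal.Quotient.mk (𝔪 B ^ n) (algebraMap A B (s n).1.2.2) =
        Ideal.Quotient.mk _ (algebraMap A B h) := by
      rw [Ideal.Quotient.eq, ← map_sub]
      refine Ideal.pow_right_mono hle n ?_
      rw [hI, ← Ideal.map_pow]
      exact Ideal.mem_map_of_mem _ (hh n)
    have e4 := Ideal.Quotient.eq_zero_iff_mem.2 (Ideal.pow_le_pow_right (Nat.le_succ n)
      (Ideal.pow_right_mono hle (n + 1) (s n).2.2.2.2))
    simp only [qv, map_sub, map_add, map_mul, map_pow] at e4 ⊢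
    rw [e1, e2, e3] at e4
    exact e4

end

section

variable {A B k : Type u} [CommRing A] [CommRing B] [Field k] [IsLocalRing A] [IsLocalRing B]
  [IsNoetherianRing A] [IsNoetherianRing B] [IsAdicComplete (𝔪 A) A] [IsAdicComplete (𝔪 B) B]
  [Algebra A B] [IsLocalHom (algebraMap A B)]

/-- Complete Noetherian local `A`-algebras flat over `A` with closed fibre a nondegenerate quadric
are `A[[u,v]]/(Q - h)`. -/
theorem exists_equiv [Module.Flat A B] (ρ : A →+* k) (a b c : A)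
    (π : B →+* MvPowerSeries (Fin 2) k ⧸ Ideal.span {qf (ρ a) (ρ b) (ρ c)})
    (hρ : Function.Surjective ρ) (hπ : Function.Surjective π)
    (hker : RingHom.ker π = (𝔪 A).map (algebraMap A B))
    (hC : ∀ r : A, π (algebraMap A B r) = Ideal.Quotient.mk _ (C (ρ r)))
    (hd : IsUnit (b ^ 2 - 4 * a * c)) :
    ∃ h ∈ 𝔪 A, ∃ e : B ≃+* (MvPowerSeries (Fin 2) A ⧸ Ideal.span
        {(qf a b c - C h : MvPowerSeries (Fin 2) A)}),
      ∀ r : A, e (algebraMap A B r) = Ideal.Quotient.mk _ (C r) := by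
  classical
  obtain ⟨U, V, h, hU, hV, hh, hQ⟩ := exists_coords ρ a b c π hρ hπ hker hC hd
  refine ⟨h, hh, ?_⟩
  have hρker : RingHom.ker ρ = 𝔪 A :=
    IsLocalRing.eq_maximalIdeal (RingHom.ker_isMaximal_of_surjective _ hρ)
  have hev0 : ev ρ a b c (π U) = 0 ∧ ev ρ a b c (π V) = 0 := by
    constructor <;> simp [hU, hV, ev]
  have hz : ∀ i, (![U, V] : Fin 2 → B) i ∈ 𝔪 B := by
    intro i
    fin_cases i
    · exact (mem_maximal_iff ρ a b c π hπ U).2 hev0.1
    · exact (mem_maximal_iff ρ a b c π hπ V).2 hev0.2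
  let Φ : MvPowerSeries (Fin 2) A →ₐ[A] B := Groth.Calg6.evalAdic (𝔪 B) ![U, V] hz
  have hΦC : ∀ r : A, Φ (C r) = algebraMap A B r := fun r => Φ.commutes r
  have hΦ0 : Φ (X 0) = U := Groth.Calg6.evalAdic_X (𝔪 B) ![U, V] hz 0
  have hΦ1 : Φ (X 1) = V := Groth.Calg6.evalAdic_X (𝔪 B) ![U, V] hz 1
  haveI : Nontrivial (MvPowerSeries (Fin 2) k ⧸ Ideal.span {qf (ρ a) (ρ b) (ρ c)}) :=
    (ev ρ a b c).domain_nontrivial
  haveI := IsLocalRing.of_surjective' π hπ
  haveI : IsLocalHom π := IsLocalHom.of_surjective π hπ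
  haveI : IsNoetherianRing (MvPowerSeries (Fin 2) k ⧸ Ideal.span {qf (ρ a) (ρ b) (ρ c)}) :=
    isNoetherianRing_of_surjective B _ π hπ
  have hπΦ : π.comp Φ.toRingHom = (Ideal.Quotient.mk _).comp (MvPowerSeries.map ρ) := by
    refine Groth.ArtfunDeform.psHom_ext (fun r => ?_) (fun i => ?_) (fun i => ?_)
    · simp [hΦC, hC]
    · fin_cases i <;> simp [hΦ0, hΦ1, hU, hV]
    · have : (π.comp Φ.toRingHom) (X i) = π (![U, V] i) := by
        fin_cases i <;> simp [hΦ0, hΦ1]
      rw [this]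
      exact map_nonunit π _ (hz i)
  set P := qf a b c - C h with hP
  have hΦP : Φ P = 0 := by
    rw [hP, map_sub, hΦC, sub_eq_zero, ← hQ]
    simp only [qf, qv, map_add, map_mul, map_pow, hΦC, hΦ0, hΦ1]
  -- surjectivity
  have hle : (𝔪 A).map (algebraMap A B) ≤ 𝔪 B :=
    ((IsLocalRing.local_hom_TFAE (algebraMap A B)).out 0 2).mp ‹_›
  have hmapI : (𝔪 A).map (algebraMap A B) ≤ (𝔪 (MvPowerSeries (Fin 2) A)).map Φ.toRingHom := by
    rw [Ideal.map_le_iff_le_comap]
    intro r hr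
    rw [Ideal.mem_comap, ← hΦC r]
    exact Ideal.mem_map_of_mem Φ.toRingHom
      ((Groth.ArtfunDeform.mem_maximalIdeal_ps _).2 (by rwa [constantCoeff_C]))
  have hmap : (𝔪 (MvPowerSeries (Fin 2) A)).map Φ.toRingHom = 𝔪 B := by
    refine le_antisymm ?_ ?_
    · rw [Ideal.map_le_iff_le_comap]
      intro g hg
      rw [Ideal.mem_comap, mem_maximal_iff ρ a b c π hπ]
      have := RingHom.congr_fun hπΦ g
      simp only [RingHom.comp_apply] at this
      rw [this]
      simp only [ev, Ideal.Quotient.lift_mk, constantCoeff_map, ← RingHom.mem_ker, hρker]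
      exact (Groth.ArtfunDeform.mem_maximalIdeal_ps g).1 hg
    · intro x hx
      obtain ⟨r, α, β, hd'⟩ := decomp ρ a b c π hρ hπ hker hC hU hV x
      have hr : r ∈ 𝔪 A := by
        have h1 : ev ρ a b c (π (x - (algebraMap A B r + α * U + β * V))) = 0 :=
          (mem_maximal_iff ρ a b c π hπ _).1 (hle hd')
        rw [← hρker, RingHom.mem_ker]
        have h2 : ev ρ a b c (π (algebraMap A B r)) = ρ r := by simp [hC, ev]
        simpa [map_sub, map_add, map_mul, (mem_maximal_iff ρ a b c π hπ x).1 hx, hev0.1, hev0.2, h2,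
          -Ideal.Quotient.lift_mk] using h1
      rw [← sub_add_cancel x (algebraMap A B r + α * U + β * V)]
      refine add_mem (hmapI hd') (add_mem (add_mem (hmapI (Ideal.mem_map_of_mem _ hr)) ?_) ?_)
      · exact Ideal.mul_mem_left _ _ (hΦ0 ▸ Ideal.mem_map_of_mem Φ.toRingHom
          ((Groth.ArtfunDeform.mem_maximalIdeal_ps _).2 (by simp)))
      · exact Ideal.mul_mem_left _ _ (hΦ1 ▸ Ideal.mem_map_of_mem Φ.toRingHom
          ((Groth.ArtfunDeform.mem_maximalIdeal_ps _).2 (by simp)))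
  haveI := Groth.ArtfunDeform.isAdicComplete_ps (A := A) (σ := Fin 2)
  haveI : IsHausdorff ((𝔪 (MvPowerSeries (Fin 2) A)).map Φ.toRingHom) B := by
    rw [hmap]; infer_instance
  have hsurj : Function.Surjective Φ := by
    refine surjective_of_mk_map_comp_surjective (I := 𝔪 (MvPowerSeries (Fin 2) A)) Φ.toRingHom ?_
    intro y
    obtain ⟨x, rfl⟩ := Ideal.Quotient.mk_surjective y
    obtain ⟨r, hr⟩ := hρ (ev ρ a b c (π x))
    refine ⟨C r, ?_⟩
    rw [RingHom.comp_apply, Ideal.Quotient.eq, hmap, mem_maximal_iff ρ a b c π hπ, map_sub,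
      map_sub]
    change ev ρ a b c (π (Φ (C r))) - _ = 0
    rw [hΦC, hC, ← hr]
    simp [ev]
  -- the kernel
  have hkerΦ : RingHom.ker Φ.toRingHom = Ideal.span {P} := by
    refine le_antisymm ?_ (Ideal.span_le.2 (by simpa using hΦP))
    obtain ⟨n, m, hm⟩ :=
      Submodule.fg_iff_exists_fin_generating_family.mp (IsNoetherian.noetherian (𝔪 A))
    refine Submodule.le_of_le_smul_of_le_jacobson_bot (I := (𝔪 A).map MvPowerSeries.C)
      (IsNoetherian.noetherian _) ?_ ?_
    · refine le_trans ?_ (IsLocalRing.maximalIdeal_le_jacobson ⊥)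
      rw [Ideal.map_le_iff_le_comap]
      intro r hr
      rw [Ideal.mem_comap, Groth.ArtfunDeform.mem_maximalIdeal_ps, constantCoeff_C]
      exact hr
    intro G hG
    have hG' : Φ G = 0 := hG
    -- reduce modulo the maximal ideal
    have h1 : Ideal.Quotient.mk (Ideal.span {qf (ρ a) (ρ b) (ρ c)}) (MvPowerSeries.map ρ G) = 0 := by
      rw [← RingHom.comp_apply, ← hπΦ]
      simp [hG']
    obtain ⟨w', hw'⟩ := Ideal.mem_span_singleton'.1 (Ideal.Quotient.eq_zero_iff_mem.1 h1)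
    choose sec hsec using hρ
    let w : MvPowerSeries (Fin 2) A := fun d => sec (coeff d w')
    have hw : MvPowerSeries.map ρ w = w' := by
      ext d; rw [coeff_map]; exact hsec _
    set x := G - w * P with hx
    have hρh : ρ h = 0 := by rw [← RingHom.mem_ker, hρker]; exact hh
    have hredx : MvPowerSeries.map ρ x = 0 := by
      rw [hx, map_sub, map_mul, hw, hP, map_sub, map_qf, map_C, hρh, map_zero, sub_zero, hw',
        sub_self]
    have hc : ∀ d, ∃ e : Fin n → A, ∑ i, e i * m i = coeff d x := fun d => by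
      have h1 : coeff d x ∈ 𝔪 A := by
        rw [← hρker, RingHom.mem_ker, ← coeff_map, hredx, map_zero]
      rw [← hm] at h1
      exact (Submodule.mem_span_range_iff_exists_fun A).mp h1
    choose e he' using hc
    let y : Fin n → MvPowerSeries (Fin 2) A := fun i => (fun d => e d i : MvPowerSeries (Fin 2) A)
    have hy : x = ∑ i, C (m i) * y i := by
      ext d
      rw [map_sum, ← he' d]
      refine Finset.sum_congr rfl fun i _ => ?_
      rw [coeff_C_mul, mul_comm]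
      rfl
    have hΦx : Φ x = 0 := by rw [hx, map_sub, map_mul, hΦP, hG']; simp
    have hrel : ∑ i, m i • Φ (y i) = 0 := by
      rw [← hΦx, hy, map_sum]
      exact Finset.sum_congr rfl fun i _ => by rw [map_mul, hΦC, Algebra.smul_def]
    obtain ⟨l, r, z, hzl, hr⟩ :=
      Module.Flat.isTrivialRelation_of_sum_smul_eq_zero (R := A) (M := B) hrel
    choose v hv using fun j => hsurj (z j)
    have hsum : ∀ i, Φ (y i - ∑ j, C (r i j) * v j) = 0 := fun i => by
      rw [map_sub, map_sum, sub_eq_zero]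
      refine (hzl i).trans ?_
      exact Finset.sum_congr rfl fun j _ => by rw [map_mul, hv, hΦC, Algebra.smul_def]
    have hx' : x = ∑ i, C (m i) * (y i - ∑ j, C (r i j) * v j) := by
      have h1 : ∑ i, C (m i) * ∑ j, C (r i j) * v j = 0 := by
        simp only [Finset.mul_sum]
        rw [Finset.sum_comm]
        refine Finset.sum_eq_zero fun j _ => ?_
        simp only [← mul_assoc, ← map_mul, ← Finset.sum_mul, ← map_sum, hr j, map_zero, zero_mul]
      simp only [mul_sub, Finset.sum_sub_distrib, h1, sub_zero]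
      exact hy
    rw [show G = w * P + x by rw [hx]; ring]
    refine Submodule.add_mem_sup (Ideal.mul_mem_left _ _ (Ideal.mem_span_singleton_self P)) ?_
    rw [hx']
    refine Submodule.sum_mem _ fun i _ => Submodule.smul_mem_smul ?_ ?_
    · exact Ideal.mem_map_of_mem _ (hm ▸ Submodule.subset_span ⟨i, rfl⟩)
    · exact hsum i
  let e : (MvPowerSeries (Fin 2) A ⧸ Ideal.span {P}) ≃+* B :=
    (Ideal.quotEquivOfEq hkerΦ.symm).trans (RingHom.quotientKerEquivOfSurjective hsurj)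
  refine ⟨e.symm, fun r => ?_⟩
  rw [RingEquiv.symm_apply_eq, ← hΦC r]
  rfl

end

end Groth.PlaneCurve.NodeCpl
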