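import Groth.Agent.PlaneCurve.NodeCompletion
import Groth.Agent.Syntomic.GeomRegularFibre
import Groth.Agent.Ega4Algebra2.CplQuot
import Groth.Agent.PropsBasic.GRingLocal
import Groth.Agent.Calg4.CompletionFlat
import Groth.Prelude.Def_Curv2
import Groth.Prelude.Def_CurvBase

/-!
The completion of a flat family at a point whose fibre completion is a nondegenerate quadric.
-/

set_option autoImplicit false
set_option linter.style.longLine false

universe u

open CategoryTheory CategoryTheory.Limits AlgebraicGeometry IsLocalRing MvPowerSeries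

namespace Groth.PlaneCurve.NodeCpl

section CplRes

variable (R : Type u) [CommRing R] [IsLocalRing R] [IsNoetherianRing R]

/-- The completion maps onto the residue field. -/
noncomputable def cplRes : Curv2.cpl R →+* ResidueField R :=
  (RingEquiv.ofBijective _ (AdicCompletion.residueField_map_bijective R)).symm.toRingHom.comp
    (residue (Curv2.cpl R))

lemma cplRes_algebraMap (r : R) : cplRes R (algebraMap R (Curv2.cpl R) r) = residue R r := by
  simp only [cplRes, RingHom.comp_apply, RingEquiv.toRingHom_eq_coe, RingEquiv.coe_toRingHom,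
    RingEquiv.symm_apply_eq]
  rfl

lemma cplRes_surjective : Function.Surjective (cplRes R) :=
  (RingEquiv.ofBijective _ (AdicCompletion.residueField_map_bijective R)).symm.surjective.comp
    residue_surjective

lemma ker_cplRes : RingHom.ker (cplRes R) = maximalIdeal (Curv2.cpl R) :=
  IsLocalRing.eq_maximalIdeal (RingHom.ker_isMaximal_of_surjective _ (cplRes_surjective R))

end CplRes

/-- Flat local homomorphism version. -/
theorem exists_equiv_of_fibre {R O F : Type u} [CommRing R] [IsLocalRing R] [IsNoetherianRing R]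
    [CommRing O] [IsLocalRing O] [IsNoetherianRing O] [CommRing F] [IsLocalRing F]
    (φ : R →+* O) [IsLocalHom φ] (hfl : φ.Flat) (ψ : O →+* F) (hψ : Function.Surjective ψ)
    (hψker : RingHom.ker ψ = (maximalIdeal R).map φ)
    (a b c : Curv2.cpl R) (hd : IsUnit (b ^ 2 - 4 * a * c))
    (e0 : Curv2.cpl F ≃+* (MvPowerSeries (Fin 2) (ResidueField R) ⧸
      Ideal.span {qf (cplRes R a) (cplRes R b) (cplRes R c)}))
    (he0 : ∀ r : R, e0 (algebraMap F (Curv2.cpl F) (ψ (φ r))) =
      Ideal.Quotient.mk _ (C (residue R r))) :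
    ∃ h ∈ maximalIdeal (Curv2.cpl R),
      ∃ e : Curv2.cpl O ≃+* (MvPowerSeries (Fin 2) (Curv2.cpl R) ⧸
          Ideal.span {(qf a b c - C h : MvPowerSeries (Fin 2) (Curv2.cpl R))}),
        ∀ r : R, e (algebraMap O (Curv2.cpl O) (φ r)) =
          Ideal.Quotient.mk _ (C (algebraMap R (Curv2.cpl R) r)) := by
  haveI : IsNoetherianRing (Curv2.cpl R) := Groth.Ega4b.isNoetherianRing_cpl R
  haveI : IsNoetherianRing (Curv2.cpl O) := Groth.Ega4b.isNoetherianRing_cpl O
  have hle : (maximalIdeal R).map φ ≤ maximalIdeal O :=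
    ((IsLocalRing.local_hom_TFAE φ).out 0 2).mp ‹_›
  letI : Algebra (Curv2.cpl R) (Curv2.cpl O) :=
    (Groth.PropsBasic.GRingLocal.cplMap (maximalIdeal R) (maximalIdeal O) φ hle).toAlgebra
  have halg : ∀ r : R, algebraMap (Curv2.cpl R) (Curv2.cpl O) (algebraMap R _ r) =
      algebraMap O (Curv2.cpl O) (φ r) :=
    Groth.Calg4.cplMap_algebraMap (maximalIdeal R) (maximalIdeal O) φ hle
  have hmapA : (maximalIdeal (Curv2.cpl R)).map (algebraMap (Curv2.cpl R) (Curv2.cpl O)) =
      ((maximalIdeal R).map φ).map (algebraMap O (Curv2.cpl O)) := by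
    rw [AdicCompletion.maximalIdeal_eq_map, Ideal.map_map, Ideal.map_map]
    exact congrArg (fun g => Ideal.map g (maximalIdeal R)) (RingHom.ext halg)
  haveI : IsLocalHom (algebraMap (Curv2.cpl R) (Curv2.cpl O)) := by
    refine ((IsLocalRing.local_hom_TFAE _).out 0 2).mpr ?_
    rw [hmapA, AdicCompletion.maximalIdeal_eq_map (R := O)]
    exact Ideal.map_mono hle
  -- flatness
  haveI : Module.Flat (Curv2.cpl R) (Curv2.cpl O) := by
    letI : Algebra R (Curv2.cpl O) := ((algebraMap O (Curv2.cpl O)).comp φ).toAlgebra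
    haveI : IsScalarTower R (Curv2.cpl R) (Curv2.cpl O) :=
      IsScalarTower.of_algebraMap_eq fun r => (halg r).symm
    haveI : Module.Flat R (Curv2.cpl O) := by
      letI := φ.toAlgebra
      haveI : Module.Flat R O := hfl
      haveI : IsScalarTower R O (Curv2.cpl O) := IsScalarTower.of_algebraMap_eq fun r => rfl
      exact Module.Flat.trans R O (Curv2.cpl O)
    haveI : IsLocalHom (algebraMap R (Curv2.cpl O)) :=
      RingHom.isLocalHom_comp (algebraMap O (Curv2.cpl O)) φ
    haveI := Groth.Calg4.faithfullyFlat_completion_of_flat R (Curv2.cpl O)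
    infer_instance
  -- the closed fibre
  set J := (maximalIdeal R).map φ
  haveI : Nontrivial (O ⧸ J) := Ideal.Quotient.nontrivial_iff.mpr
    (ne_top_of_le_ne_top (maximalIdeal.isMaximal O).ne_top hle)
  haveI : IsLocalRing (O ⧸ J) := .of_surjective' (Ideal.Quotient.mk J) Ideal.Quotient.mk_surjective
  let e1 : (O ⧸ J) ≃+* F :=
    (Ideal.quotEquivOfEq hψker.symm).trans (RingHom.quotientKerEquivOfSurjective hψ)
  obtain ⟨σ, hσ⟩ := Groth.PropsBasic.GRingLocal.exists_cplEquiv (maximalIdeal (O ⧸ J)) (maximalIdeal F) e1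
    (IsLocalRing.map_ringEquiv_maximalIdeal e1)
  let π := (e0.toRingHom.comp σ.toRingHom).comp (Groth.Ega4b.cplQuot O J)
  have hπ : Function.Surjective π :=
    (e0.surjective.comp σ.surjective).comp (Groth.Ega4b.cplQuot_surjective O J)
  have hker : RingHom.ker π =
      (maximalIdeal (Curv2.cpl R)).map (algebraMap (Curv2.cpl R) (Curv2.cpl O)) := by
    rw [hmapA]
    refine Eq.trans ?_ (Groth.Ega4b.ker_cplQuot O J)
    ext x
    simp only [π, RingHom.mem_ker, RingHom.comp_apply, RingEquiv.toRingHom_eq_coe,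
      RingEquiv.coe_toRingHom, EmbeddingLike.map_eq_zero_iff]
  have hC : ∀ x : Curv2.cpl R, π (algebraMap (Curv2.cpl R) (Curv2.cpl O) x) =
      Ideal.Quotient.mk _ (C (cplRes R x)) := by
    intro x
    obtain ⟨r, hr⟩ := residue_surjective (cplRes R x)
    have h1 : x - algebraMap R _ r ∈ maximalIdeal (Curv2.cpl R) := by
      rw [← ker_cplRes, RingHom.mem_ker, map_sub, cplRes_algebraMap, hr, sub_self]
    have h2 : π (algebraMap (Curv2.cpl R) (Curv2.cpl O) (x - algebraMap R _ r)) = 0 := by
      rw [← RingHom.mem_ker, hker]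
      exact Ideal.mem_map_of_mem _ h1
    rw [map_sub, map_sub, sub_eq_zero, halg] at h2
    rw [h2, ← hr, ← he0 r]
    simp only [π, RingHom.comp_apply, RingEquiv.toRingHom_eq_coe, RingEquiv.coe_toRingHom]
    rw [Groth.Ega4b.cplQuot_algebraMap, hσ]
    rfl
  obtain ⟨h, hh, e, he⟩ := exists_equiv (cplRes R) a b c π (cplRes_surjective R) hπ hker hC hd
  exact ⟨h, hh, e, fun r => by rw [← halg r]; exact he _⟩

/-- The map from the local ring to that of the fibre. -/
lemma exists_fibre_map {T S : Scheme.{u}} (f : T ⟶ S) {x : T} {s : S} (w : f.fiber s)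
    (hw : f.fiberι s w = x) (hs : f x = s) :
    letI : (f.fiber s).Over (Spec (CommRingCat.of (S.residueField s))) := ⟨f.fiberToSpecResidueField s⟩
    letI := Curv2.stalkAlgebra (S.residueField s) (f.fiber s) w
    ∃ ψ : T.presheaf.stalk x →+* (f.fiber s).presheaf.stalk w, Function.Surjective ψ ∧
      RingHom.ker ψ = (maximalIdeal (S.presheaf.stalk (f x))).map (f.stalkMap x).hom ∧
      ∀ r, ψ ((f.stalkMap x).hom r) =
        algebraMap (S.residueField s) _ ((S.residueFieldCongr hs).hom (S.residue (f x) r)) := by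
  letI : (f.fiber s).Over (Spec (CommRingCat.of (S.residueField s))) := ⟨f.fiberToSpecResidueField s⟩
  letI := Curv2.stalkAlgebra (S.residueField s) (f.fiber s) w
  subst hw
  obtain ⟨hsurj, hker⟩ := Groth.Agent.S9501.result f s w
  refine ⟨((f.fiberι s).stalkMap w).hom, hsurj, hker, fun r => ?_⟩
  have hcomp : f.stalkMap _ ≫ (f.fiberι s).stalkMap w = S.residue _ ≫ (S.residueFieldCongr hs).hom ≫
      CommRingCat.ofHom (Curv2.stalkMap (S.residueField s) (f.fiber s) w) := by
    apply Spec.map_injective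
    rw [← cancel_mono (S.fromSpecStalk (f (f.fiberι s w)))]
    simp only [Spec.map_comp, Category.assoc]
    rw [Scheme.SpecMap_stalkMap_fromSpecStalk, Scheme.SpecMap_stalkMap_fromSpecStalk_assoc,
      ← Scheme.fromSpecResidueField, Scheme.residueFieldCongr_fromSpecResidueField]
    refine Eq.trans ?_ (congrArg (· ≫ S.fromSpecResidueField s)
      (Groth.VarietyBC.fromSpecStalk_str (k := S.residueField s) (X := f.fiber s) w))
    exact (congrArg ((f.fiber s).fromSpecStalk w ≫ ·) pullback.condition).trans (Category.assoc _ _ _).symm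
  exact congrArg (fun φ => φ.hom r) hcomp

/-- The scheme version. -/
theorem exists_equiv_stalk {T S : Scheme.{u}} (f : T ⟶ S) [LocallyOfFiniteType f] (t : T)
    [IsNoetherianRing (S.presheaf.stalk (f t))] (hfl : (f.stalkMap t).hom.Flat)
    (a b c : Curv2.cpl (S.presheaf.stalk (f t))) (hd : IsUnit (b ^ 2 - 4 * a * c))
    (he0 : letI : (f.fiber (f t)).Over (Spec (CommRingCat.of (S.residueField (f t)))) :=
        ⟨f.fiberToSpecResidueField (f t)⟩
      letI := Curv2.stalkAlgebra (S.residueField (f t)) (f.fiber (f t)) (f.asFiber t)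
      ∃ e0 : Curv2.cpl ((f.fiber (f t)).presheaf.stalk (f.asFiber t)) ≃+*
          (MvPowerSeries (Fin 2) (S.residueField (f t)) ⧸ Ideal.span
            {qf (A := S.residueField (f t)) (cplRes _ a) (cplRes _ b) (cplRes _ c)}),
        ∀ r : S.residueField (f t),
          e0 (algebraMap ((f.fiber (f t)).presheaf.stalk (f.asFiber t)) _
              (algebraMap (S.residueField (f t)) ((f.fiber (f t)).presheaf.stalk (f.asFiber t)) r)) =
            Ideal.Quotient.mk _ (C r)) :
    ∃ h ∈ maximalIdeal (Curv2.cpl (S.presheaf.stalk (f t))),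
      ∃ e : Curv2.cpl (T.presheaf.stalk t) ≃+*
          (MvPowerSeries (Fin 2) (Curv2.cpl (S.presheaf.stalk (f t))) ⧸ Ideal.span
            {(qf a b c - C h : MvPowerSeries (Fin 2) (Curv2.cpl (S.presheaf.stalk (f t))))}),
        ∀ r : S.presheaf.stalk (f t),
          e (algebraMap (T.presheaf.stalk t) (Curv2.cpl (T.presheaf.stalk t)) ((f.stalkMap t).hom r)) =
            Ideal.Quotient.mk _ (C (algebraMap (S.presheaf.stalk (f t)) _ r)) := by
  letI : (f.fiber (f t)).Over (Spec (CommRingCat.of (S.residueField (f t)))) :=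
    ⟨f.fiberToSpecResidueField (f t)⟩
  letI := Curv2.stalkAlgebra (S.residueField (f t)) (f.fiber (f t)) (f.asFiber t)
  obtain ⟨e0, he0⟩ := he0
  obtain ⟨ψ, hψ, hψker, hcompat⟩ := exists_fibre_map f (f.asFiber t) (f.fiberι_asFiber t) rfl
  haveI : IsNoetherianRing (T.presheaf.stalk t) := by
    letI := (f.stalkMap t).hom.toAlgebra
    haveI : Algebra.EssFiniteType (S.presheaf.stalk (f t)) (T.presheaf.stalk t) :=
      LocallyOfFiniteType.stalkMap f t
    exact Algebra.EssFiniteType.isNoetherianRing (S.presheaf.stalk (f t)) (T.presheaf.stalk t)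
  refine exists_equiv_of_fibre (f.stalkMap t).hom hfl ψ hψ hψker a b c hd e0 fun r => ?_
  refine (congrArg (fun z => e0 (algebraMap _ _ z)) (hcompat r)).trans ?_
  simp only [Scheme.residueFieldCongr_refl]
  exact he0 _

end Groth.PlaneCurve.NodeCpl
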