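import Mathlib
import Groth.Agent.ArtfunDeform.PowerSeries
import Groth.Agent.SGA7.PowerSeries
import Groth.Agent.Ega4Algebra2.CplQuot
import Groth.Agent.AdicLinTop.CompletionQuot
import Groth.Agent.Curves1.Node.Criterion

/-!
Differentials near a point with completion `Λ[[x,y]]/(xy - u)`: away from `u = 0` they are cyclic.
-/

set_option autoImplicit false
set_option linter.style.longLine false

universe u

open MvPowerSeries Groth.SGA7.PS IsLocalRing TensorProduct

namespace Groth.PlaneCurve.NodeDeform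

variable {Λ R S O : Type u} [CommRing Λ] [IsLocalRing Λ] [CommRing R] [CommRing S] [Algebra R S]
  [CommRing O] [IsLocalRing O] [IsNoetherianRing O] [Algebra S O] [Algebra R O] [IsScalarTower R S O]

/-- Derivatives of high powers of the maximal ideal are small. -/
lemma D_mem_pow (n : ℕ) {z : O} (hz : z ∈ maximalIdeal O ^ (n + 1)) :
    KaehlerDifferential.D R O z ∈ maximalIdeal O ^ n • (⊤ : Submodule O Ω[O⁄R]) := by
  induction n generalizing z with
  | zero => simp
  | succ n ih =>
    rw [pow_succ] at hz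
    refine Submodule.mul_induction_on hz (fun a ha b hb => ?_) fun a b ha hb => by
      rw [map_add]; exact add_mem ha hb
    rw [Derivation.leibniz]
    refine add_mem (Submodule.smul_mem_smul ha Submodule.mem_top) ?_
    have h1 := Submodule.smul_mem_smul hb (ih ha)
    rwa [← Submodule.mul_smul, ← pow_succ'] at h1

/-- Approximations of the coordinates. -/
theorem exists_coords_approx (η : Λ →+* O) (hη : ∀ c : Λ, ∃ r : R, algebraMap R O r = η c) (u₀ : Λ)
    (e : AdicCompletion (maximalIdeal O) O ≃+*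
      (MvPowerSeries (Fin 2) Λ ⧸ Ideal.span {(X 0 * X 1 - C u₀ : MvPowerSeries (Fin 2) Λ)}))
    (he : ∀ c : Λ, e (algebraMap O _ (η c)) = Ideal.Quotient.mk _ (C c))
    (hu₀ : u₀ ∈ maximalIdeal Λ) [Module.Finite O Ω[O⁄R]] (n : ℕ) (hn : 2 ≤ n) :
    ∃ x y : O, x * y - η u₀ ∈ maximalIdeal O ^ n ∧
      Submodule.span O {KaehlerDifferential.D R O x, KaehlerDifferential.D R O y} = ⊤ := by
  classical
  let ι := algebraMap O (AdicCompletion (maximalIdeal O) O)
  let q := Ideal.Quotient.mk (Ideal.span {(X 0 * X 1 - C u₀ : MvPowerSeries (Fin 2) Λ)})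
  have hfg : (maximalIdeal O).FG := IsNoetherian.noetherian _
  have happrox : ∀ (z : AdicCompletion (maximalIdeal O) O) (m : ℕ),
      ∃ a : O, z - ι a ∈ ((maximalIdeal O).map ι) ^ m := by
    intro z m
    obtain ⟨a, ha⟩ := Ideal.Quotient.mk_surjective (AdicCompletion.evalₐ (maximalIdeal O) m z)
    refine ⟨a, ?_⟩
    rw [← Groth.AdicLinTop.CompletionQuot.ker_evalₐ _ hfg m]
    show AdicCompletion.evalₐ (maximalIdeal O) m (z - ι a) = 0
    rw [map_sub, Groth.AdicLinTop.CompletionQuot.evalₐ_algebraMap, ha, sub_self]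
  have hback : ∀ (a : O) (m : ℕ), ι a ∈ ((maximalIdeal O).map ι) ^ m → a ∈ maximalIdeal O ^ m := by
    intro a m h
    rw [← Groth.AdicLinTop.CompletionQuot.ker_evalₐ _ hfg m] at h
    change AdicCompletion.evalₐ (maximalIdeal O) m (ι a) = 0 at h
    rwa [Groth.AdicLinTop.CompletionQuot.evalₐ_algebraMap, Ideal.Quotient.eq_zero_iff_mem] at h
  set M := (maximalIdeal O).map ι with hM
  have hMmax : M = maximalIdeal (AdicCompletion (maximalIdeal O) O) :=
    AdicCompletion.maximalIdeal_eq_map.symm
  let εΛ : MvPowerSeries (Fin 2) Λ ⧸ Ideal.span {(X 0 * X 1 - C u₀ : MvPowerSeries (Fin 2) Λ)} →+* ResidueField Λ :=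
    Ideal.Quotient.lift _ ((residue Λ).comp constantCoeff) (fun w hw => by
      obtain ⟨w', rfl⟩ := Ideal.mem_span_singleton'.1 hw
      simp [(residue_eq_zero_iff _).2 hu₀])
  have hX : ∀ i : Fin 2, e.symm (q (X i)) ∈ M := by
    intro i
    rw [hMmax, mem_maximalIdeal, mem_nonunits_iff]
    intro h
    have := (h.map e).map εΛ
    simp [εΛ, q] at this
  obtain ⟨x, hx⟩ := happrox (e.symm (q (X 0))) n
  obtain ⟨y, hy⟩ := happrox (e.symm (q (X 1))) n
  have hle : M ^ n ≤ M ^ 2 := Ideal.pow_le_pow_right hn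
  have hxM : ι x ∈ M := by
    simpa using sub_mem (hX 0) (Ideal.pow_le_self (by omega) hx)
  have hyM : ι y ∈ M := by
    simpa using sub_mem (hX 1) (Ideal.pow_le_self (by omega) hy)
  refine ⟨x, y, hback _ n ?_, ?_⟩
  · have h1 : e.symm (q (X 0)) * e.symm (q (X 1)) = ι (η u₀) := by
      rw [← map_mul, ← map_mul, e.symm_apply_eq, he]
      exact Ideal.Quotient.eq.2 (Ideal.mem_span_singleton_self _)
    rw [map_sub, map_mul, ← h1, show ι x * ι y - e.symm (q (X 0)) * e.symm (q (X 1)) =
      -((e.symm (q (X 0)) - ι x) * e.symm (q (X 1)) + ι x * (e.symm (q (X 1)) - ι y)) by ring]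
    exact neg_mem (add_mem (Ideal.mul_mem_right _ _ hx) (Ideal.mul_mem_left _ _ hy))
  · set N := Submodule.span O {KaehlerDifferential.D R O x, KaehlerDifferential.D R O y}
    refine eq_top_iff.2 (Submodule.le_of_le_smul_of_le_jacobson_bot (I := maximalIdeal O)
      Module.Finite.fg_top (maximalIdeal_le_jacobson ⊥) ?_)
    rw [← KaehlerDifferential.span_range_derivation, Submodule.span_le]
    rintro _ ⟨z, rfl⟩
    rw [SetLike.mem_coe, KaehlerDifferential.span_range_derivation]
    obtain ⟨p, hp⟩ := Ideal.Quotient.mk_surjective (e (ι z))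
    obtain ⟨h, hh, -⟩ := exists_sum_X_mul (p - C (constantCoeff p)) (by simp)
    rw [Fin.sum_univ_two] at hh
    obtain ⟨r, hr⟩ := hη (constantCoeff p)
    obtain ⟨a, ha⟩ := happrox (e.symm (q (h 0))) 1
    obtain ⟨b, hb⟩ := happrox (e.symm (q (h 1))) 1
    rw [pow_one] at ha hb
    have hz : z - (algebraMap R O r + a * x + b * y) ∈ maximalIdeal O ^ 2 := by
      refine hback _ 2 ?_
      have h2 : ι z = ι (η (constantCoeff p)) + e.symm (q (X 0)) * e.symm (q (h 0)) +
          e.symm (q (X 1)) * e.symm (q (h 1)) := by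
        apply e.injective
        rw [← hp, map_add, map_add, map_mul, map_mul, he, e.apply_symm_apply, e.apply_symm_apply,
          e.apply_symm_apply, e.apply_symm_apply, ← map_mul, ← map_mul, ← map_add, ← map_add]
        congr 1
        linear_combination hh
      rw [map_sub, map_add, map_add, map_mul, map_mul, hr, h2,
        show ι (η (constantCoeff p)) + e.symm (q (X 0)) * e.symm (q (h 0)) +
            e.symm (q (X 1)) * e.symm (q (h 1)) - (ι (η (constantCoeff p)) + ι a * ι x + ι b * ι y) =
          (e.symm (q (X 0)) - ι x) * e.symm (q (h 0)) + ι x * (e.symm (q (h 0)) - ι a) +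
            ((e.symm (q (X 1)) - ι y) * e.symm (q (h 1)) + ι y * (e.symm (q (h 1)) - ι b)) by ring]
      rw [sq]
      refine add_mem (add_mem (Ideal.mul_mem_right _ _ ?_) (Ideal.mul_mem_mul hxM ha))
        (add_mem (Ideal.mul_mem_right _ _ ?_) (Ideal.mul_mem_mul hyM hb))
      · rw [← sq]; exact hle hx
      · rw [← sq]; exact hle hy
    have hsmall := D_mem_pow (R := R) 1 hz
    rw [pow_one, map_sub, map_add, map_add, Derivation.leibniz, Derivation.leibniz,
      Derivation.map_algebraMap, zero_add] at hsmall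
    rw [← sub_add_cancel (KaehlerDifferential.D R O z)
      (a • KaehlerDifferential.D R O x + b • KaehlerDifferential.D R O y), add_comm]
    refine Submodule.add_mem_sup (add_mem (Submodule.smul_mem _ _ (Submodule.subset_span (by simp)))
      (Submodule.smul_mem _ _ (Submodule.subset_span (by simp)))) ?_
    have hxm : x ∈ maximalIdeal O := by simpa using hback x 1 (by rwa [pow_one])
    have hym : y ∈ maximalIdeal O := by simpa using hback y 1 (by rwa [pow_one])
    have h3 := add_mem hsmall (add_mem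
      (Submodule.smul_mem_smul hxm (Submodule.mem_top (x := KaehlerDifferential.D R O a)))
      (Submodule.smul_mem_smul hym (Submodule.mem_top (x := KaehlerDifferential.D R O b))))
    convert h3 using 1
    abel

/-- Where `u` does not vanish, the differentials are generated by one element. -/
theorem finrank_le_one (η : Λ →+* O) (hη : ∀ c : Λ, ∃ r : R, algebraMap R O r = η c) (u₀ : Λ)
    (e : AdicCompletion (maximalIdeal O) O ≃+*
      (MvPowerSeries (Fin 2) Λ ⧸ Ideal.span {(X 0 * X 1 - C u₀ : MvPowerSeries (Fin 2) Λ)}))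
    (he : ∀ c : Λ, e (algebraMap O _ (η c)) = Ideal.Quotient.mk _ (C c))
    (hu₀ : u₀ ∈ maximalIdeal Λ) [Algebra.FiniteType R S] (P : Ideal S) [P.IsPrime]
    [IsLocalization.AtPrime O P] (Q : Ideal S) [Q.IsPrime] (hQP : Q ≤ P) (u' : S)
    (hu' : algebraMap S O u' = η u₀) (huQ : u' ∉ Q) :
    Module.finrank Q.ResidueField (Q.ResidueField ⊗[S] Ω[S⁄R]) ≤ 1 := by
  classical
  haveI : Algebra.EssFiniteType R O :=
    haveI : Algebra.EssFiniteType S O := Algebra.EssFiniteType.of_isLocalization _ P.primeCompl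
    Algebra.EssFiniteType.comp R S O
  let Q' := Q.map (algebraMap S O)
  have hdisj : Disjoint (P.primeCompl : Set S) Q := Set.disjoint_left.2 fun _ h1 h2 => h1 (hQP h2)
  haveI hQ'p : Q'.IsPrime := IsLocalization.isPrime_of_isPrime_disjoint P.primeCompl O Q inferInstance hdisj
  have hcomap : Q'.comap (algebraMap S O) = Q :=
    IsLocalization.comap_map_of_isPrime_disjoint P.primeCompl O inferInstance hdisj
  have huQ' : η u₀ ∉ Q' := fun h => huQ (hcomap ▸ (show algebraMap S O u' ∈ Q' from hu'.symm ▸ h))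
  -- Krull intersection in the domain
  obtain ⟨n, hn⟩ : ∃ n, η u₀ ∉ Q' ⊔ maximalIdeal O ^ (n + 1) := by
    by_contra! h
    haveI : Nontrivial (O ⧸ Q') := Ideal.Quotient.nontrivial_iff.mpr hQ'p.ne_top
    haveI : IsLocalRing (O ⧸ Q') := .of_surjective' (Ideal.Quotient.mk Q') Ideal.Quotient.mk_surjective
    have hm : (maximalIdeal O).map (Ideal.Quotient.mk Q') ≤ maximalIdeal (O ⧸ Q') :=
      Ideal.map_le_iff_le_comap.2 fun a ha =>
        haveI := IsLocalHom.of_surjective (Ideal.Quotient.mk Q') Ideal.Quotient.mk_surjective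
        map_nonunit (Ideal.Quotient.mk Q') a ha
    have h0 : Ideal.Quotient.mk Q' (η u₀) ∈ ⨅ i : ℕ, maximalIdeal (O ⧸ Q') ^ i := by
      refine (Submodule.mem_iInf _).2 fun i => ?_
      obtain ⟨s, hs, t, ht, hst⟩ := Submodule.mem_sup.1 (h i)
      rw [← hst, map_add, Ideal.Quotient.eq_zero_iff_mem.2 hs, zero_add]
      refine Ideal.pow_right_mono hm i ?_
      rw [← Ideal.map_pow]
      exact Ideal.mem_map_of_mem _ (Ideal.pow_le_pow_right (Nat.le_succ i) ht)
    rw [Ideal.iInf_pow_eq_bot_of_isLocalRing _ (maximalIdeal.isMaximal _).ne_top] at h0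
    exact huQ' (Ideal.Quotient.eq_zero_iff_mem.1 h0)
  obtain ⟨x, y, hxy, hspan⟩ := exists_coords_approx (R := R) η hη u₀ e he hu₀ (n + 2) (by omega)
  -- the relation
  have hrel : KaehlerDifferential.D R O (x * y - η u₀) ∈
      maximalIdeal O ^ (n + 1) • Submodule.span O {KaehlerDifferential.D R O x, KaehlerDifferential.D R O y} := by
    rw [hspan]; exact D_mem_pow (n + 1) hxy
  rw [Submodule.span_insert, Submodule.smul_sup] at hrel
  obtain ⟨_, hα, _, hβ, hsum⟩ := Submodule.mem_sup.1 hrel
  obtain ⟨α, hαm, rfl⟩ := Submodule.mem_smul_span_singleton.1 hα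
  obtain ⟨β, hβm, rfl⟩ := Submodule.mem_smul_span_singleton.1 hβ
  obtain ⟨ru, hru⟩ := hη u₀
  rw [map_sub, Derivation.leibniz, ← hru, Derivation.map_algebraMap, sub_zero] at hsum
  have hunit : y - α ∉ Q' ∨ x - β ∉ Q' := by
    by_contra! h
    refine hn ?_
    rw [show η u₀ = (x - β) * y + β * y - (x * y - η u₀) by ring]
    exact sub_mem (add_mem (Submodule.mem_sup_left (Ideal.mul_mem_right _ _ h.2))
      (Submodule.mem_sup_right (Ideal.mul_mem_right _ _ hβm)))
      (Submodule.mem_sup_right (Ideal.pow_le_pow_right (Nat.le_succ _) hxy))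
  -- push to the residue field
  let κ := Q.ResidueField
  have hunits : ∀ t : P.primeCompl, IsUnit (algebraMap S κ t) := fun t =>
    isUnit_iff_ne_zero.2 fun h => t.2 (hQP (Ideal.algebraMap_residueField_eq_zero.1 h))
  letI : Algebra O κ := (IsLocalization.lift (S := O) hunits).toAlgebra
  haveI : IsScalarTower S O κ :=
    IsScalarTower.of_algebraMap_eq fun s => (IsLocalization.lift_eq (S := O) hunits s).symm
  haveI : IsLocalizedModule P.primeCompl (KaehlerDifferential.map R R S O) :=
    KaehlerDifferential.isLocalizedModule_map R S O P.primeCompl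
  have hend : ∀ t : P.primeCompl, IsUnit (algebraMap S (Module.End S (κ ⊗[S] Ω[S⁄R])) t) := by
    intro t
    obtain ⟨w, hw⟩ := (hunits t).exists_left_inv
    refine (Module.End.isUnit_iff _).2 ⟨fun a b hab => ?_, fun b => ⟨w • b, ?_⟩⟩
    · simp only [Module.algebraMap_end_apply] at hab
      rw [← algebraMap_smul κ (t : S) a, ← algebraMap_smul κ (t : S) b] at hab
      have := congrArg (w • ·) hab
      simp only [smul_smul, hw, one_smul] at this
      exact this
    · rw [Module.algebraMap_end_apply, ← algebraMap_smul κ (t : S) (w • b), smul_smul,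
        mul_comm, hw, one_smul]
  let g₀ := IsLocalizedModule.lift P.primeCompl (KaehlerDifferential.map R R S O)
    (TensorProduct.mk S κ Ω[S⁄R] 1) hend
  let g : Ω[O⁄R] →ₗ[O] κ ⊗[S] Ω[S⁄R] := g₀.extendScalarsOfIsLocalization P.primeCompl O
  set U := g (KaehlerDifferential.D R O x)
  set V := g (KaehlerDifferential.D R O y)
  have hUV : algebraMap O κ (y - α) • U + algebraMap O κ (x - β) • V = 0 := by
    have h1 := congrArg g hsum
    simp only [map_add, map_smul] at h1
    rw [algebraMap_smul, algebraMap_smul, sub_smul, sub_smul]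
    rw [← sub_eq_zero] at h1
    rw [← neg_eq_zero, ← h1]
    abel
  have hnz : ∀ c : O, c ∉ Q' → algebraMap O κ c ≠ 0 := by
    intro c hc h0
    obtain ⟨⟨s, t⟩, hst⟩ := IsLocalization.surj P.primeCompl c
    have h1 := congrArg (algebraMap O κ) hst
    rw [map_mul, h0, zero_mul, ← IsScalarTower.algebraMap_apply S O κ] at h1
    have hs : s ∈ Q := Ideal.algebraMap_residueField_eq_zero.1 h1.symm
    have h2 : c * algebraMap S O t ∈ Q' := hst ▸ Ideal.mem_map_of_mem _ hs
    exact (hQ'p.mem_or_mem h2).elim hc fun h => t.2 (hQP (hcomap ▸ h))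
  obtain ⟨W, hW⟩ : ∃ W, Submodule.span κ {U, V} ≤ Submodule.span κ {W} := by
    rcases hunit with h | h
    · refine ⟨V, Submodule.span_le.2 ?_⟩
      rintro z (rfl | rfl)
      · refine Submodule.mem_span_singleton.2
          ⟨-((algebraMap O κ (y - α))⁻¹ * algebraMap O κ (x - β)), ?_⟩
        have h1 := congrArg ((algebraMap O κ (y - α))⁻¹ • ·) hUV
        simp only [smul_add, smul_smul, inv_mul_cancel₀ (hnz _ h), one_smul, smul_zero] at h1
        rw [neg_smul]
        exact (eq_neg_of_add_eq_zero_left h1).symm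
      · exact Submodule.subset_span rfl
    · refine ⟨U, Submodule.span_le.2 ?_⟩
      rintro z (rfl | rfl)
      · exact Submodule.subset_span rfl
      · refine Submodule.mem_span_singleton.2
          ⟨-((algebraMap O κ (x - β))⁻¹ * algebraMap O κ (y - α)), ?_⟩
        have h1 := congrArg ((algebraMap O κ (x - β))⁻¹ • ·) hUV
        simp only [smul_add, smul_smul, inv_mul_cancel₀ (hnz _ h), one_smul, smul_zero] at h1
        rw [neg_smul]
        exact (eq_neg_of_add_eq_zero_right h1).symm
  refine _root_.finrank_le_one W fun v => Submodule.mem_span_singleton.1 (hW ?_)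
  have hg : ∀ ω : Ω[S⁄R], (1 : κ) ⊗ₜ[S] ω ∈ Submodule.span κ {U, V} := by
    intro ω
    have h1 : g (KaehlerDifferential.map R R S O ω) = (1 : κ) ⊗ₜ[S] ω :=
      IsLocalizedModule.lift_apply P.primeCompl (KaehlerDifferential.map R R S O) (TensorProduct.mk S κ Ω[S⁄R] 1) hend ω
    rw [← h1]
    have h2 : KaehlerDifferential.map R R S O ω ∈
        Submodule.span O {KaehlerDifferential.D R O x, KaehlerDifferential.D R O y} :=
      hspan ▸ Submodule.mem_top
    obtain ⟨c, d, hcd⟩ := Submodule.mem_span_pair.1 h2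
    rw [← hcd, map_add, map_smul, map_smul, ← algebraMap_smul κ c, ← algebraMap_smul κ d]
    exact add_mem (Submodule.smul_mem _ _ (Submodule.subset_span (by simp [U])))
      (Submodule.smul_mem _ _ (Submodule.subset_span (by simp [V])))
  induction v using TensorProduct.induction_on with
  | zero => exact zero_mem _
  | tmul c ω =>
    rw [show c ⊗ₜ[S] ω = c • ((1 : κ) ⊗ₜ[S] ω) by simp [TensorProduct.smul_tmul']]
    exact Submodule.smul_mem _ _ (hg ω)
  | add a b ha hb => exact add_mem ha hb

end Groth.PlaneCurve.NodeDeform
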