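import Groth.Agent.PlaneCurve.NodeDeform
import Groth.Agent.PlaneCurve.NodeCompletionScheme
import Groth.Agent.Curves1.Node.NodalSing
import Groth.Agent.ResolveSurf.CompletionRegular
import Groth.Agent.Misc3Fitt.Local
import Groth.Prelude.Def_Coh

/-!
A flat family with closed fibre node deformed by a parameter is smooth off the closed fibre.
-/

set_option autoImplicit false
set_option linter.style.longLine false

universe u

open CategoryTheory AlgebraicGeometry IsLocalRing MvPowerSeries Groth.Curves1.Node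

namespace Groth.PlaneCurve.NodeDeform

theorem smoothOfRelativeDimension_ι {T S : Scheme.{u}} {f : T ⟶ S} {V : S.Opens} (hV : IsAffineOpen V)
    {W : T.Opens} (hW : IsAffineOpen W) (e : W ≤ f ⁻¹ᵁ V)
    (h : (f.appLE V W e).hom.IsStandardSmoothOfRelativeDimension 1) :
    SmoothOfRelativeDimension 1 (W.ι ≫ f) := by
  haveI : IsAffine W.toScheme := hW
  refine ⟨fun x => ⟨V, hV, ⊤, isAffineOpen_top _, trivial,
    fun y _ => e y.2, ?_⟩⟩
  rw [← Scheme.Hom.appLE_comp_appLE W.ι f V W ⊤ e (fun y _ => y.2)]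
  rw [CommRingCat.hom_comp]
  refine (RingHom.isStandardSmoothOfRelativeDimension_respectsIso (n := 1)).1 _
    (RingEquiv.ofBijective (W.ι.appLE W ⊤ _).hom ?_) h
  have key : ∀ {a b : T.Opens} (h : a ≤ b), b ≤ a →
      Function.Bijective (T.presheaf.map (homOfLE h).op).hom := by
    intro a b h h'
    obtain rfl := le_antisymm h h'
    rw [show (homOfLE h).op = 𝟙 (Opposite.op a) from rfl, CategoryTheory.Functor.map_id]
    exact Function.bijective_id
  rw [Scheme.Opens.ι_appLE]
  exact key _ W.ι_image_top.ge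

/-- A point of the closed fibre with completion `Λ[[x,y]]/(xy - u)` is a node of its fibre. -/
theorem isFibreNode_of_completion {Λ : Type u} [CommRing Λ] [IsLocalRing Λ] [IsNoetherianRing Λ]
    (u : Λ) (hu : u ∈ maximalIdeal Λ) {T : Scheme.{u}}
    (f : T ⟶ Spec (CommRingCat.of Λ)) [LocallyOfFiniteType f] (p : T) (hp : f.base p = closedPoint Λ)
    (e : AdicCompletion (maximalIdeal (T.presheaf.stalk p)) (T.presheaf.stalk p) ≃+*
      (MvPowerSeries (Fin 2) Λ ⧸ Ideal.span {(X 0 * X 1 - C u : MvPowerSeries (Fin 2) Λ)}))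
    (he : ∀ c : Λ, e (algebraMap (T.presheaf.stalk p) _ (((T.presheaf.germ ⊤ p trivial).hom.comp (Coh.toGlobal f)) c)) =
      Ideal.Quotient.mk _ (C c)) :
    IsFibreNode f (f p) (f.asFiber p) := by
  classical
  haveI : IsLocallyNoetherian T := LocallyOfFiniteType.isLocallyNoetherian f
  letI : (f.fiber (f p)).Over (Spec (CommRingCat.of ((Spec (CommRingCat.of Λ)).residueField (f p)))) :=
    ⟨f.fiberToSpecResidueField (f p)⟩
  letI := Curv2.stalkAlgebra ((Spec (CommRingCat.of Λ)).residueField (f p)) (f.fiber (f p)) (f.asFiber p)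
  haveI : LocallyOfFiniteType ((f.fiber (f p)) ↘ (Spec (CommRingCat.of ((Spec (CommRingCat.of Λ)).residueField (f p))))) :=
    inferInstanceAs (LocallyOfFiniteType (Limits.pullback.snd f ((Spec (CommRingCat.of Λ)).fromSpecResidueField (f p))))
  haveI := isNoetherianRing_stalk (k := (Spec (CommRingCat.of Λ)).residueField (f p)) (f.asFiber p)
  obtain ⟨ψ, hψ, hψker, hcompat⟩ :=
    Groth.PlaneCurve.NodeCpl.exists_fibre_map f (f.asFiber p) (f.fiberι_asFiber p) rfl
  set η := ((T.presheaf.germ ⊤ p trivial).hom.comp (Coh.toGlobal f))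
  let τ : Λ →+* (Spec (CommRingCat.of Λ)).presheaf.stalk (f p) :=
    ((Spec (CommRingCat.of Λ)).presheaf.germ ⊤ (f p) trivial).hom.comp
      (Scheme.ΓSpecIso (CommRingCat.of Λ)).inv.hom
  have hτ : Function.Bijective τ := by
    have key : ∀ (y : Spec (CommRingCat.of Λ)), y = closedPoint Λ → Function.Bijective
        (((Spec (CommRingCat.of Λ)).presheaf.germ ⊤ y trivial).hom.comp
          (Scheme.ΓSpecIso (CommRingCat.of Λ)).inv.hom) := by
      rintro y rfl
      have h1 : (Scheme.ΓSpecIso (CommRingCat.of Λ)).inv ≫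
          (Spec (CommRingCat.of Λ)).presheaf.germ ⊤ (closedPoint Λ) trivial =
          (stalkClosedPointIso (CommRingCat.of Λ)).inv := by
        exact (Iso.inv_comp_eq _).2 (ΓSpecIso_hom_stalkClosedPointIso_inv _).symm
      have := ConcreteCategory.bijective_of_isIso (stalkClosedPointIso (CommRingCat.of Λ)).inv
      rw [← h1] at this
      exact this
    exact key _ hp
  have hcomp : ∀ c, (f.stalkMap p).hom (τ c) = η c := fun c =>
    Scheme.Hom.germ_stalkMap_apply f ⊤ p trivial _
  have hηm : (maximalIdeal ((Spec (CommRingCat.of Λ)).presheaf.stalk (f p))).map (f.stalkMap p).hom =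
      (maximalIdeal Λ).map η := by
    rw [← IsLocalRing.map_ringEquiv_maximalIdeal (RingEquiv.ofBijective τ hτ),
      ← Ideal.map_coe (RingEquiv.ofBijective τ hτ), Ideal.map_map]
    exact congrArg (fun g => Ideal.map g (maximalIdeal Λ)) (RingHom.ext hcomp)
  set J := (maximalIdeal Λ).map η
  rw [hηm] at hψker
  haveI : Nontrivial (T.presheaf.stalk p ⧸ J) := Ideal.Quotient.nontrivial_iff.mpr
    (hψker ▸ (RingHom.ker_ne_top ψ))
  haveI : IsLocalRing (T.presheaf.stalk p ⧸ J) := .of_surjective' (Ideal.Quotient.mk J) Ideal.Quotient.mk_surjective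
  let e1 : (T.presheaf.stalk p ⧸ J) ≃+* (f.fiber (f p)).presheaf.stalk (f.asFiber p) :=
    (Ideal.quotEquivOfEq hψker.symm).trans (RingHom.quotientKerEquivOfSurjective hψ)
  obtain ⟨σ, -⟩ := Groth.PropsBasic.GRingLocal.exists_cplEquiv (maximalIdeal (T.presheaf.stalk p ⧸ J)) _ e1
    (IsLocalRing.map_ringEquiv_maximalIdeal e1)
  -- reduce the normal form
  let k := ResidueField Λ
  let red : MvPowerSeries (Fin 2) Λ →+* Quadric (0 : k) 1 0 :=
    (Ideal.Quotient.mk _).comp (MvPowerSeries.map (residue Λ))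
  have hmk : quad (0 : k) 1 0 = MvPowerSeries.map (residue Λ) (X 0 * X 1 - C u) := by
    simp [quad, (residue_eq_zero_iff _).2 hu]
  let π : AdicCompletion (maximalIdeal (T.presheaf.stalk p)) (T.presheaf.stalk p) →+* Quadric (0 : k) 1 0 :=
    (Ideal.Quotient.lift _ red (fun w hw => by
      obtain ⟨w', rfl⟩ := Ideal.mem_span_singleton'.1 hw
      rw [map_mul]
      refine mul_eq_zero_of_right _ (Ideal.Quotient.eq_zero_iff_mem.2 ?_)
      rw [← hmk]
      exact Ideal.mem_span_singleton_self _)).comp e.toRingHom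
  choose sec hsec using residue_surjective (R := Λ)
  have hmap : ∀ g : MvPowerSeries (Fin 2) k, ∃ G : MvPowerSeries (Fin 2) Λ,
      MvPowerSeries.map (residue Λ) G = g := fun g =>
    ⟨fun d => sec (coeff d g), by ext d; rw [coeff_map]; exact hsec _⟩
  have hπs : Function.Surjective π := by
    intro z
    obtain ⟨g, rfl⟩ := Ideal.Quotient.mk_surjective z
    obtain ⟨G, rfl⟩ := hmap g
    exact ⟨e.symm (Ideal.Quotient.mk _ G), by simp [π, red]⟩
  obtain ⟨N, m, hm⟩ := Submodule.fg_iff_exists_fin_generating_family.mp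
    (IsNoetherian.noetherian (maximalIdeal Λ))
  have hπk : RingHom.ker π = J.map (algebraMap (T.presheaf.stalk p) (AdicCompletion (maximalIdeal (T.presheaf.stalk p)) (T.presheaf.stalk p))) := by
    refine le_antisymm (fun z hz => ?_) ?_
    · obtain ⟨G, hG⟩ := Ideal.Quotient.mk_surjective (e z)
      rw [RingHom.mem_ker] at hz
      simp only [π, RingHom.comp_apply, RingEquiv.toRingHom_eq_coe, RingEquiv.coe_toRingHom, ← hG,
        Ideal.Quotient.lift_mk, red] at hz
      obtain ⟨w', hw'⟩ := Ideal.mem_span_singleton'.1 (Ideal.Quotient.eq_zero_iff_mem.1 hz)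
      obtain ⟨w, rfl⟩ := hmap w'
      have hx : ∀ d, ∃ c : Fin N → Λ, ∑ i, c i * m i = coeff d (G - w * (X 0 * X 1 - C u)) := fun d => by
        have h1 : coeff d (G - w * (X 0 * X 1 - C u)) ∈ maximalIdeal Λ := by
          rw [← residue_eq_zero_iff, ← coeff_map, map_sub, map_mul, ← hmk, hw', sub_self, map_zero]
        rw [← hm] at h1
        exact (Submodule.mem_span_range_iff_exists_fun Λ).mp h1
      choose cf hcf using hx
      let yv : Fin N → MvPowerSeries (Fin 2) Λ := fun i => (fun d => cf d i : MvPowerSeries (Fin 2) Λ)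
      have hy : G - w * (X 0 * X 1 - C u) = ∑ i, C (m i) * yv i := by
        ext d
        rw [map_sum, ← hcf d]
        exact Finset.sum_congr rfl fun i _ => by rw [coeff_C_mul, mul_comm]; rfl
      have hz' : z = ∑ i, e.symm (Ideal.Quotient.mk _ (C (m i))) *
          e.symm (Ideal.Quotient.mk _ (yv i)) := by
        apply e.injective
        rw [map_sum, ← hG]
        simp only [map_mul, e.apply_symm_apply]
        simp only [← map_mul, ← map_sum, ← hy]
        refine Ideal.Quotient.eq.2 ?_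
        rw [sub_sub_cancel]
        exact Ideal.mul_mem_left _ _ (Ideal.mem_span_singleton_self _)
      rw [hz']
      refine Ideal.sum_mem _ fun i _ => Ideal.mul_mem_right _ _ ?_
      rw [← he, e.symm_apply_apply]
      exact Ideal.mem_map_of_mem _ (Ideal.mem_map_of_mem η (hm ▸ Submodule.subset_span ⟨i, rfl⟩))
    · rw [Ideal.map_map, Ideal.map_le_iff_le_comap]
      intro c hc
      rw [Ideal.mem_comap, RingHom.mem_ker]
      simp only [π, RingHom.comp_apply, RingEquiv.toRingHom_eq_coe, RingEquiv.coe_toRingHom]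
      erw [he c]
      simp [red, (residue_eq_zero_iff _).2 hc]
  let eq : AdicCompletion (maximalIdeal ((f.fiber (f p)).presheaf.stalk (f.asFiber p))) _ ≃+*
      Quadric (0 : k) 1 0 :=
    σ.symm.trans (((RingHom.quotientKerEquivOfSurjective (Groth.Ega4b.cplQuot_surjective (T.presheaf.stalk p) J)).symm.trans
      (Ideal.quotEquivOfEq ((Groth.Ega4b.ker_cplQuot (T.presheaf.stalk p) J).trans hπk.symm))).trans
      (RingHom.quotientKerEquivOfSurjective hπs))
  obtain ⟨hred, hcrit⟩ := criterion_of_equiv (by simp : 4 * (0 : k) * 0 - 1 ^ 2 ≠ 0) eq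
  refine (isFibreNode_iff_isNodeRing f _).2 ⟨?_, hred, hcrit⟩
  -- the residue field is that of the base point
  have hloc : IsLocalHom ψ := IsLocalHom.of_surjective ψ hψ
  have hsurj : Function.Surjective (algebraMap ((Spec (CommRingCat.of Λ)).residueField (f p)) (ResidueField ((f.fiber (f p)).presheaf.stalk (f.asFiber p)))) := by
    intro r
    obtain ⟨a, rfl⟩ := residue_surjective r
    obtain ⟨z, rfl⟩ := hψ a
    obtain ⟨G, hG⟩ := Ideal.Quotient.mk_surjective (e (algebraMap (T.presheaf.stalk p) _ z))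
    refine ⟨(Spec (CommRingCat.of Λ)).residue (f p) (τ (constantCoeff G)), ?_⟩
    have h1 : ψ (η (constantCoeff G)) = algebraMap ((Spec (CommRingCat.of Λ)).residueField (f p)) ((f.fiber (f p)).presheaf.stalk (f.asFiber p)) ((Spec (CommRingCat.of Λ)).residue (f p) (τ (constantCoeff G))) := by
      rw [← hcomp, hcompat, Scheme.residueFieldCongr_refl]
      rfl
    rw [IsScalarTower.algebraMap_apply ((Spec (CommRingCat.of Λ)).residueField (f p)) ((f.fiber (f p)).presheaf.stalk (f.asFiber p)) (ResidueField ((f.fiber (f p)).presheaf.stalk (f.asFiber p))), ← h1]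
    refine Ideal.Quotient.eq.2 ?_
    rw [← map_sub]
    refine map_nonunit ψ _ ?_
    rw [mem_maximalIdeal, mem_nonunits_iff]
    intro h2
    have h3 := (h2.map (algebraMap (T.presheaf.stalk p) (AdicCompletion (maximalIdeal (T.presheaf.stalk p)) (T.presheaf.stalk p)))).map e
    let εd : (MvPowerSeries (Fin 2) Λ ⧸ Ideal.span {(X 0 * X 1 - C u : MvPowerSeries (Fin 2) Λ)}) →+* k :=
      Ideal.Quotient.lift _ ((residue Λ).comp constantCoeff) (fun w hw => by
        obtain ⟨w', rfl⟩ := Ideal.mem_span_singleton'.1 hw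
        simp [(residue_eq_zero_iff _).2 hu])
    have h6 : εd (e (algebraMap (T.presheaf.stalk p) _ (η (constantCoeff G) - z))) = 0 := by
      rw [map_sub, map_sub, map_sub, show e (algebraMap (T.presheaf.stalk p) _ (η (constantCoeff G))) =
        Ideal.Quotient.mk _ (C (constantCoeff G)) from he (constantCoeff G), ← hG]
      simp [εd]
    exact not_isUnit_zero (h6 ▸ h3.map εd)
  exact Algebra.IsSeparable.of_algHom ((Spec (CommRingCat.of Λ)).residueField (f p)) ((Spec (CommRingCat.of Λ)).residueField (f p)) (AlgEquiv.ofBijective (Algebra.ofId ((Spec (CommRingCat.of Λ)).residueField (f p)) (ResidueField ((f.fiber (f p)).presheaf.stalk (f.asFiber p))))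
    ⟨(algebraMap ((Spec (CommRingCat.of Λ)).residueField (f p)) (ResidueField ((f.fiber (f p)).presheaf.stalk (f.asFiber p)))).injective, hsurj⟩).symm.toAlgHom

/-- Points generizing such a node and off the closed fibre are smooth. -/
theorem smoothOne_of_node {Λ : Type u} [CommRing Λ] [IsLocalRing Λ] [IsNoetherianRing Λ]
    (hdim : ringKrullDim Λ = 1) (u : Λ) (hu : (Ideal.span {u}).radical = maximalIdeal Λ) {T : Scheme.{u}}
    (f : T ⟶ Spec (CommRingCat.of Λ)) [LocallyOfFinitePresentation f] [Flat f] (p : T)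
    (hp : f.base p = closedPoint Λ)
    (e : AdicCompletion (maximalIdeal (T.presheaf.stalk p)) (T.presheaf.stalk p) ≃+*
      (MvPowerSeries (Fin 2) Λ ⧸ Ideal.span {(X 0 * X 1 - C u : MvPowerSeries (Fin 2) Λ)}))
    (he : ∀ c : Λ, e (algebraMap (T.presheaf.stalk p) _ (((T.presheaf.germ ⊤ p trivial).hom.comp (Coh.toGlobal f)) c)) =
      Ideal.Quotient.mk _ (C c))
    (q : T) (hqp : q ⤳ p) (hq : f.base q ≠ closedPoint Λ) : IsSmoothOneAt f q := by
  classical
  haveI : IsLocallyNoetherian T := LocallyOfFiniteType.isLocallyNoetherian f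
  have hum : u ∈ maximalIdeal Λ := hu ▸ Ideal.le_radical (Ideal.mem_span_singleton_self u)
  have hpn := isFibreNode_of_completion u hum f p hp e he
  obtain ⟨W₀, hpW, hW₀⟩ := exists_node_nhd f p hpn
  refine (hW₀ q (hqp.mem_open W₀.2 hpW)).resolve_right fun hqn => ?_
  obtain ⟨_, ⟨U, hU : IsAffineOpen U, rfl⟩, hpU, -⟩ :=
    T.isBasis_affineOpens.exists_subset_of_mem_open (Set.mem_univ p) isOpen_univ
  have hqU : q ∈ U := hqp.mem_open U.2 hpU
  have hle : U ≤ f ⁻¹ᵁ ⊤ := fun _ _ => trivial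
  have hV : IsAffineOpen (⊤ : (Spec (CommRingCat.of Λ)).Opens) := isAffineOpen_top _
  letI := (f.appLE ⊤ U hle).hom.toAlgebra
  haveI : Algebra.FinitePresentation Γ(Spec (CommRingCat.of Λ), ⊤) Γ(T, U) :=
    f.finitePresentation_appLE hV hU hle
  haveI : Module.Flat Γ(Spec (CommRingCat.of Λ), ⊤) Γ(T, U) := f.flat_appLE hV hU hle
  -- the node: the Fitting ideal vanishes at q
  letI : (f.fiber (f q)).Over (Spec (CommRingCat.of ((Spec (CommRingCat.of Λ)).residueField (f q)))) :=
    ⟨f.fiberToSpecResidueField (f q)⟩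
  haveI : LocallyOfFiniteType ((f.fiber (f q)) ↘ (Spec (CommRingCat.of ((Spec (CommRingCat.of Λ)).residueField (f q))))) :=
    inferInstanceAs (LocallyOfFiniteType (Limits.pullback.snd f ((Spec (CommRingCat.of Λ)).fromSpecResidueField (f q))))
  haveI := isNoetherianRing_stalk (k := (Spec (CommRingCat.of Λ)).residueField (f q)) (f.asFiber q)
  letI := Curv2.stalkAlgebra ((Spec (CommRingCat.of Λ)).residueField (f q)) (f.fiber (f q)) (f.asFiber q)
  have hw : f.fiberι (f q) (f.asFiber q) ∈ U := by rwa [f.fiberι_asFiber]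
  have hρ := isFibreLocal_toFibreStalk f hV hU hle (s := f q) trivial (f.asFiber q) hw
  have hA := (isFibreNode_iff_isNodeRing f _).1 hqn
  obtain ⟨N, φ, hφ, hI⟩ := ‹Algebra.FinitePresentation Γ(Spec (CommRingCat.of Λ), ⊤) Γ(T, U)›.out
  obtain ⟨n, g, hh, rfl, hg, hunit, hhI⟩ := hρ.exists_equations φ hφ hI hA
  have hJ := ((hρ.isNodeRing_iff_fitting hφ hg hh hhI hunit).1 hA).2
  set Q := (hU.primeIdealOf ⟨q, hqU⟩).asIdeal with hQdef
  set P := (hU.primeIdealOf ⟨p, hpU⟩).asIdeal with hPdef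
  have hQeq : (maximalIdeal ((f.fiber (f q)).presheaf.stalk (f.asFiber q))).comap
      (toFibreStalk f (f.asFiber q) hw).hom = Q := by
    rw [hQdef, show (⟨q, hqU⟩ : U) = ⟨_, hw⟩ from Subtype.ext (f.fiberι_asFiber q).symm,
      hU.primeIdealOf_eq_map_closedPoint]
    show Ideal.comap _ _ = Ideal.comap _ _
    rw [toFibreStalk, CommRingCat.hom_comp, ← Ideal.comap_comap]
    congr 1
    have : IsLocalHom ((f.fiberι (f q)).stalkMap (f.asFiber q)).hom := inferInstance
    exact ((local_hom_TFAE ((f.fiberι (f q)).stalkMap (f.asFiber q)).hom).out 0 4).1 this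
  have hFQ : Fitt.ideal Γ(T, U) (Ω[Γ(T, U)⁄Γ(Spec (CommRingCat.of Λ), ⊤)]) 1 ≤ Q := by
    rw [← hQeq, ← Ideal.map_le_iff_le_comap, hJ]
  -- but the differentials are cyclic at q
  refine absurd hFQ ((Groth.Misc3Fitt.not_le_prime_iff_finrank (R := Γ(T, U)) (M := Ω[Γ(T, U)⁄Γ(Spec (CommRingCat.of Λ), ⊤)]) (k := 1) Q).2 ?_)
  letI := T.presheaf.algebra_section_stalk (U := U) ⟨p, hpU⟩
  haveI : IsLocalization.AtPrime (T.presheaf.stalk p) P := hU.isLocalization_stalk ⟨p, hpU⟩
  letI : Algebra Γ(Spec (CommRingCat.of Λ), ⊤) (T.presheaf.stalk p) :=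
    ((T.presheaf.germ U p hpU).hom.comp (algebraMap Γ(Spec (CommRingCat.of Λ), ⊤) Γ(T, U))).toAlgebra
  haveI : IsScalarTower Γ(Spec (CommRingCat.of Λ), ⊤) Γ(T, U) (T.presheaf.stalk p) := IsScalarTower.of_algebraMap_eq fun _ => rfl
  have hη : ∀ (x : T) (hx : x ∈ U) (c : Λ),
      (T.presheaf.germ U x hx).hom (algebraMap Γ(Spec (CommRingCat.of Λ), ⊤) Γ(T, U) ((Scheme.ΓSpecIso (CommRingCat.of Λ)).inv c)) =
        ((T.presheaf.germ ⊤ x trivial).hom.comp (Coh.toGlobal f)) c := fun x hx c => by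
    show (f.appLE ⊤ U hle ≫ T.presheaf.germ U x hx) _ = _
    rw [Scheme.Hom.appLE, Category.assoc, TopCat.Presheaf.germ_res]
    rfl
  have hQP : Q ≤ P := by
    have h1 : (hU.primeIdealOf ⟨q, hqU⟩) ⤳ (hU.primeIdealOf ⟨p, hpU⟩) := by
      refine hU.isOpenImmersion_fromSpec.base_open.isInducing.specializes_iff.1 ?_
      erw [hU.fromSpec_primeIdealOf, hU.fromSpec_primeIdealOf]
      exact hqp
    exact (PrimeSpectrum.le_iff_specializes _ _).2 h1
  refine finrank_le_one (R := Γ(Spec (CommRingCat.of Λ), ⊤)) _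
    (fun c => ⟨(Scheme.ΓSpecIso (CommRingCat.of Λ)).inv c, hη p hpU c⟩) u e he hum P Q hQP
    (algebraMap Γ(Spec (CommRingCat.of Λ), ⊤) Γ(T, U) ((Scheme.ΓSpecIso (CommRingCat.of Λ)).inv u)) (hη p hpU u) ?_
  -- `u` is invertible at q
  letI := T.presheaf.algebra_section_stalk (U := U) ⟨q, hqU⟩
  haveI : IsLocalization.AtPrime (T.presheaf.stalk q) Q := hU.isLocalization_stalk ⟨q, hqU⟩
  refine (IsLocalization.AtPrime.isUnit_to_map_iff (T.presheaf.stalk q) Q _).1 ?_
  show IsUnit ((T.presheaf.germ U q hqU).hom _)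
  rw [hη q hqU]
  show IsUnit ((T.presheaf.germ ⊤ q trivial).hom (f.appTop ((Scheme.ΓSpecIso (CommRingCat.of Λ)).inv u)))
  rw [show f.appTop = f.app ⊤ from rfl]
  erw [← Scheme.Hom.germ_stalkMap_apply f ⊤ q trivial]
  refine IsUnit.map _ ?_
  rw [← (Spec (CommRingCat.of Λ)).mem_basicOpen ((Scheme.ΓSpecIso (CommRingCat.of Λ)).inv u) (f q) trivial]
  erw [basicOpen_eq_of_affine]
  show u ∉ (f.base q).asIdeal
  intro hmem
  refine hq (PrimeSpectrum.ext ((maximalIdeal.isMaximal Λ).eq_of_le (f.base q).2.ne_top ?_).symm)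
  rw [← hu]
  exact ((f.base q).2.radical_le_iff).2 ((Ideal.span_singleton_le_iff_mem _).2 hmem)

end Groth.PlaneCurve.NodeDeform
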