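import Groth.Agent.CurveBridge.Linear
import Groth.Agent.CurveBridge.FromDivisor

/-!
The degree of an invertible module is the degree of its divisor, whatever the field of constants.
-/

set_option linter.style.haveILetI false
set_option linter.unusedSectionVars false

universe u

open CategoryTheory AlgebraicGeometry Opposite TopologicalSpace WithZero FunFld
open Groth.PicAux Groth.FunFld1

namespace Groth.PlaneCurve.RegCurveDegree

/-- `dim A/(A(D)+K) + δ(D)` is constant, for any field of constants. -/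
theorem exists_adele_quotient {k K : Type*} [Field k] [Field K] [Algebra k K] (hF : IsFF k K) :
    ∃ C : ℤ, ∀ D : Divisor k K, FiniteDimensional k (↥(adele k K) ⧸ ADK D) ∧
      (Module.finrank k (↥(adele k K) ⧸ ADK D) : ℤ) = C - delta D := by
  obtain ⟨b, hb⟩ := hF.exists_delta_le
  obtain ⟨C, ⟨D₀, hD₀⟩, hC⟩ := Int.exists_greatest_of_bdd (P := fun z => ∃ D : Divisor k K, delta D = z)
    ⟨b, by rintro z ⟨D, rfl⟩; exact hb D⟩ ⟨_, 0, rfl⟩
  have key : ∀ E', D₀ ≤ E' → delta E' = C := fun E' h =>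
    le_antisymm (hC _ ⟨E', rfl⟩) (hD₀.symm.trans_le (hF.delta_mono h))
  refine ⟨C, fun D => ?_⟩
  have heq : AD (D ⊔ D₀) ⊔ LinearMap.range (diag k K) = adele k K := by
    refine le_antisymm (sup_le (AD_le_adele _) hF.range_diag_le) fun a ha => ?_
    obtain ⟨Da, hDa⟩ := exists_mem_AD ha
    have h := hF.qfin_AD_sup_range (le_sup_left : D ⊔ D₀ ≤ D ⊔ D₀ ⊔ Da)
    rw [key _ le_sup_right, key _ (le_sup_right.trans le_sup_left), sub_self] at h
    rw [QFin.eq_of_zero h]
    exact Submodule.mem_sup_left (AD_mono le_sup_right hDa)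
  have h := hF.qfin_AD_sup_range (le_sup_left : D ≤ D ⊔ D₀)
  rw [heq, key _ le_sup_right] at h
  obtain ⟨-, h2, h3⟩ := h
  refine ⟨h2, ?_⟩
  have := hC _ ⟨D, rfl⟩
  exact (congrArg Int.ofNat h3).trans (Int.toNat_of_nonneg (by omega))

open Groth.CurveBridge

variable {k : Type u} [Field k] {X : Scheme.{u}} [X.Over (Spec (CommRingCat.of k))] [IsIntegral X]
  [IsProper (X ↘ Spec (CommRingCat.of k))] (h : IsRegCurve X)
include h

/-- An embedding with a divisor of the expected degree. -/
theorem exists_divEmb_deg {L : X.Modules} (hL : PicF.IsInvertible L) :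
    ∃ (φ : L ⟶ constK X) (D : FunFld.Divisor k X.functionField),
      IsDivEmb h φ D ∧ Curv2.deg k X L 1 = D.deg := by
  obtain ⟨U, e, hU, he⟩ := (isInvertible_iff_exists_gen L).1 hL (genericPoint X)
  obtain ⟨φ, hmono, hφ⟩ := exists_embedding hL hU he
  obtain ⟨D, hD⟩ := exists_divisor (k := k) φ h hL hU he hφ
  obtain ⟨e0⟩ := nonempty_h0_equiv φ h hU hφ hD
  obtain ⟨e1⟩ := nonempty_h1_equiv φ h hU hφ hD
  obtain ⟨⟨o0⟩, ⟨o1⟩⟩ := exists_div_structure k h
  obtain ⟨C, hC⟩ := exists_adele_quotient (isFF k X h.dim)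
  have hqD := (hC D).2
  have hq0 := (hC 0).2
  rw [e1.finrank_eq] at hqD
  rw [o1.finrank_eq] at hq0
  unfold delta at hqD hq0
  rw [deg_zero] at hq0
  have h0 : Module.finrank k (Coh.HH X L 0) = FunFld.ell D := e0.finrank_eq
  have h00 : Module.finrank k (Coh.HH X (Coh.structureModule X) 0) =
      FunFld.ell (0 : FunFld.Divisor k X.functionField) := o0.finrank_eq
  refine ⟨φ, D, ⟨hmono, hD⟩, ?_⟩
  unfold Curv2.deg
  rw [Groth.EulerDeg.euler_eq_sub fun n hn => subsingleton_HH k h L hn,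
    Groth.EulerDeg.euler_eq_sub fun n hn => subsingleton_HH k h _ hn, h0, h00]
  push_cast
  linarith

end Groth.PlaneCurve.RegCurveDegree
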