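import Groth.Agent.CurveBridge.DoubleCover
import Groth.Agent.CurveBridge.LinSeriesExists
import Groth.Prelude.Def_Omega3

/-!
The morphism to projective space of a linear series, with base points allowed.
-/

set_option linter.style.haveILetI false
set_option linter.unusedSectionVars false

universe u

open CategoryTheory AlgebraicGeometry Opposite TopologicalSpace WithZero
open Groth.PicAux Groth.Chow Groth.FunFld1 Groth.PropsBasic.Ample Groth.CurveBridge

namespace Groth.PlaneCurve.SeriesMap

variable {k : Type u} [Field k] {X : Scheme.{u}} [X.Over (Spec (CommRingCat.of k))] [IsIntegral X]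
  [IsProper (X ↘ Spec (CommRingCat.of k))] (h : IsRegCurve X)

/-- Linearly independent sections have nonzero rational functions. -/
theorem zv_ne_zero_of_linIndep {L : X.Modules} (φ : L ⟶ constK X) [Mono φ] {n : ℕ}
    (s : Fin n → LinSer.Sect X L) (hs : LinSer.LinIndep k X L s) (i : Fin n) : zv φ (s i) ≠ 0 := by
  classical
  intro hz
  have h0 : s i = 0 := app_injective φ ⊤ (constK_ext fun hU => hz.trans (((congrArg (kv hU) (map_zero (φ.app ⊤).hom)).trans (map_zero (kv hU))).symm))
  have := congrFun (hs (Pi.single i 1) (Finset.sum_eq_zero fun j _ => by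
    rcases eq_or_ne j i with rfl | hj
    · rw [h0, smul_zero]
    · rw [Pi.single_eq_of_ne hj]; erw [map_zero]; exact zero_smul _ _)) i
  rw [Pi.single_eq_same] at this
  exact one_ne_zero this

include h in
/-- The smallest divisor bounding finitely many nonzero functions. -/
theorem exists_supDiv {n : ℕ} (z : Fin (n + 1) → X.functionField) (hz : ∀ l, z l ≠ 0) :
    ∃ D' : FunFld.Divisor k X.functionField, ∀ P : FunFld.Place k X.functionField,
      (∀ l, P.1 (z l) ≤ exp (D' P)) ∧ ∃ l, P.1 (z l) = exp (D' P) := by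
  classical
  have hF := isFF k X h.dim
  let g : FunFld.Place k X.functionField → ℤ :=
    fun P => Finset.univ.sup' Finset.univ_nonempty fun l => -(FunFld.div k (z l) P)
  let S := Finset.univ.biUnion fun l => (FunFld.div k (z l)).support
  refine ⟨Finsupp.onFinset S g fun P hP => ?_, fun P => ?_⟩
  · by_contra hS
    refine hP ?_
    have h0 : ∀ l, FunFld.div k (z l) P = 0 := fun l => by
      by_contra hne
      exact hS (Finset.mem_biUnion.2 ⟨l, Finset.mem_univ _, Finsupp.mem_support_iff.2 hne⟩)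
    simp only [g, h0, neg_zero]
    exact Finset.sup'_const _ _
  · have hv : ∀ l, P.1 (z l) = exp (-(FunFld.div k (z l) P)) := fun l => by
      rw [hF.div_apply, Groth.FunFld1.val_eq_exp_neg_ord P (hz l)]
    refine ⟨fun l => ?_, ?_⟩
    · rw [hv, exp_le_exp, Finsupp.onFinset_apply]
      exact Finset.le_sup' (fun l => -(FunFld.div k (z l) P)) (Finset.mem_univ l)
    · obtain ⟨l, -, hl⟩ := Finset.exists_mem_eq_sup' Finset.univ_nonempty
        (fun l => -(FunFld.div k (z l) P))
      exact ⟨l, by rw [hv, Finsupp.onFinset_apply]; exact congrArg exp hl.symm⟩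

/-- A linear series gives a morphism to projective space. -/
theorem exists_map (h : IsRegCurve X) {L : X.Modules} (hL : PicF.IsInvertible L) {r : ℕ}
    (s : Fin (r + 1) → LinSer.Sect X L) (hs : LinSer.LinIndep k X L s) :
    ∃ (f : X ⟶ CohB1.ProjSpace r k)
      (α : (Scheme.Modules.pullback f).obj (Twist.twistProjSpace r k 1) ⟶ L),
      f ≫ CohB1.ProjSpace.toSpec r k = X ↘ (Spec (CommRingCat.of k)) ∧
        ∀ i, α.app ⊤ (ProjUP.pullSec f (Twist.twistProjSpace r k 1) (ToPn.co r k i)) = s i := by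
  have hF := isFF k X h.dim
  obtain ⟨φ, D, hφ⟩ := DoubleCover.exists_divEmb_any (k := k) h hL
  haveI := hφ.1
  have hz := zv_ne_zero_of_linIndep φ s hs
  obtain ⟨D', hD'⟩ := exists_supDiv (k := k) h (fun l => zv φ (s l)) hz
  have hle : ∀ P, D' P ≤ D P := fun P => by
    obtain ⟨l, hl⟩ := (hD' P).2
    have := zv_mem h hφ (s l) P
    rwa [hl, exp_le_exp] at this
  obtain ⟨L', φ', U₀, hU₀, e₀, hL', -, hm, hD⟩ := exists_invertible_embedding (k := k) h D'
  haveI := hm
  have hφ' : IsDivEmb h φ' D' := ⟨hm, hD⟩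
  obtain ⟨ι, hι⟩ := exists_hom_of_inStalk φ' φ fun y z hy => by
    by_cases hη : y = genericPoint X
    · subst hη; exact inStalk_generic φ hL z
    · let x : Pt X := ⟨y, (isClosed_singleton_iff X h.dim y).mpr hη⟩
      exact (hφ.2 x z).2 (((hD x z).1 hy).trans (exp_le_exp.2 (hle _)))
  have hsec : ∀ l, ∃ t : ProjUP.Γm L', zv φ' t = zv φ (s l) := fun l => by
    obtain ⟨t, ht⟩ := exists_section_of_inStalk φ' ⊤ (zv φ (s l)) fun y _ => by
      by_cases hy : y = genericPoint X
      · subst hy; exact inStalk_generic φ' hL' _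
      · exact (hD ⟨y, (isClosed_singleton_iff X h.dim y).mpr hy⟩ _).mpr ((hD' _).1 l)
    exact ⟨t, ht trivial⟩
  choose t ht using hsec
  have hts : ∀ l, ι.app ⊤ (t l) = s l := fun l => by
    refine app_injective φ ⊤ (constK_ext fun hU => ?_)
    have := congrArg (fun β : L' ⟶ constK X => kv hU (β.app ⊤ (t l))) hι
    exact this.trans (ht l)
  have hU : ⨆ i, ToPn.U L' t i = ⊤ := by
    refine eq_top_iff.mpr fun y _ => Opens.mem_iSup.mpr ?_
    have key : ∀ x : Pt X, ∃ l, x.1 ∈ ToPn.U L' t l := fun x => by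
      obtain ⟨l, hl⟩ := (hD' (placeAt (k := k) h x)).2
      exact ⟨l, (mem_gloc_iff h hφ' hL' (t l) x).mpr (by rw [ht]; exact hl)⟩
    by_cases hy : y = genericPoint X
    · obtain ⟨P⟩ := hF.nonempty_place
      obtain ⟨x, -⟩ := placeAt_surjective (k := k) h P
      obtain ⟨l, hl⟩ := key x
      exact ⟨l, hy ▸ (genericPoint_specializes x.1).mem_open (ToPn.U L' t l).2 hl⟩
    · exact key ⟨y, (isClosed_singleton_iff X h.dim y).mpr hy⟩
  obtain ⟨f, hf⟩ := ToPn.exists_r (X ↘ Spec (CommRingCat.of k)) L' t hU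
  obtain ⟨τ, hτ⟩ := ToPn.exists_tau hf hU
  refine ⟨f, τ.hom ≫ ι, ToPn.r_toSpec hf hU, fun i => ?_⟩
  rw [Scheme.Modules.Hom.comp_app]
  exact (congrArg (ι.app ⊤) (hτ i)).trans (hts i)

end Groth.PlaneCurve.SeriesMap
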