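import Groth.Agent.PlaneCurve.HypIdeal
import Groth.Agent.Misc3Bertini.Chart
import Groth.Agent.Chow.ProjUnique

/-!
# Smoothness of a hypersurface read in the standard charts
-/

set_option linter.style.haveILetI false

universe u

open CategoryTheory CategoryTheory.Limits AlgebraicGeometry Opposite TopologicalSpace
open Groth.PicAux HomogeneousLocalization

namespace Groth.PlaneCurve

variable {k : Type u} [Field k] {n : ℕ} (j : Fin (n + 1))

local notation "ℙg" => CohB1.polyGrading n k

/-- The coordinates of the chart `T_j = 1`. -/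
noncomputable def affCoord (l : Fin (n + 1)) : MvPolynomial (Fin n) k :=
  Fin.insertNth (α := fun _ => MvPolynomial (Fin n) k) j 1 MvPolynomial.X l

/-- A form written in the coordinates of a chart. -/
noncomputable def affEq {d : ℕ} (G : LefPen.Form n k d) : MvPolynomial (Fin n) k :=
  MvPolynomial.eval₂ MvPolynomial.C (affCoord j) G.1

/-- The coordinates as functions on a chart. -/
noncomputable def toAway : MvPolynomial (Fin n) k →+* Away ℙg (MvPolynomial.X j) :=
  MvPolynomial.eval₂Hom (Misc3Bertini.scalar k n j)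
    fun l => Misc3Bertini.frac k n j (j.succAbove l)

/-- Functions on a chart as polynomials. -/
noncomputable def ofAway : Away ℙg (MvPolynomial.X j) →+* MvPolynomial (Fin n) k :=
  Groth.Chow.ToPn.chart j MvPolynomial.C (affCoord j) (Fin.insertNth_apply_same j 1 _)

theorem ofAway_evalFrac {d : ℕ} {P : MvPolynomial (Fin (n + 1)) k} (hP : P ∈ ℙg (d • 1)) :
    ofAway j (Misc3Bertini.evalFrac k n j P) =
      MvPolynomial.eval₂ MvPolynomial.C (affCoord j) P := by
  rw [Misc3Bertini.evalFrac_eq_mk k n j hP]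
  exact Groth.Chow.ToPn.chart_mk j MvPolynomial.C (affCoord j) _ d P hP

theorem ofAway_scalar (c : k) :
    ofAway j (Misc3Bertini.scalar k n j c) = MvPolynomial.C c := by
  have h := ofAway_evalFrac j (d := 0) (P := MvPolynomial.C c)
    (by simpa using MvPolynomial.isHomogeneous_C _ c)
  rw [Misc3Bertini.evalFrac, MvPolynomial.eval₂Hom_C, MvPolynomial.eval₂_C] at h
  exact h

theorem ofAway_frac (l : Fin (n + 1)) :
    ofAway j (Misc3Bertini.frac k n j l) = affCoord j l := by
  have h := ofAway_evalFrac j (d := 1) (P := MvPolynomial.X l)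
    (by rw [one_smul]; exact MvPolynomial.isHomogeneous_X k l)
  rw [Misc3Bertini.evalFrac, MvPolynomial.eval₂Hom_X', MvPolynomial.eval₂_X] at h
  exact h

theorem ofAway_toAway (p : MvPolynomial (Fin n) k) : ofAway j (toAway j p) = p := by
  suffices h : (ofAway j).comp (toAway j) = RingHom.id (MvPolynomial (Fin n) k) from
    RingHom.congr_fun h p
  refine MvPolynomial.ringHom_ext (fun c => ?_) fun l => ?_
  · simp only [RingHom.comp_apply, RingHom.id_apply, toAway, MvPolynomial.eval₂Hom_C, ofAway_scalar]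
  · simp only [RingHom.comp_apply, RingHom.id_apply, toAway, MvPolynomial.eval₂Hom_X', ofAway_frac,
      affCoord, Fin.insertNth_apply_succAbove]

theorem toAway_ofAway (z : Away ℙg (MvPolynomial.X j)) : toAway j (ofAway j z) = z := by
  obtain ⟨P, rfl⟩ := Misc3Bertini.evalFrac_surjective k n j z
  suffices h : ((toAway j).comp (ofAway j)).comp (Misc3Bertini.evalFrac k n j) =
      Misc3Bertini.evalFrac k n j from RingHom.congr_fun h P
  refine MvPolynomial.ringHom_ext (fun c => ?_) fun l => ?_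
  · simp only [RingHom.comp_apply, Misc3Bertini.evalFrac, MvPolynomial.eval₂Hom_C,
      ofAway_scalar, toAway]
  · simp only [RingHom.comp_apply, Misc3Bertini.evalFrac, MvPolynomial.eval₂Hom_X',
      ofAway_frac]
    refine Fin.succAboveCases j ?_ (fun i => ?_) l
    · rw [affCoord, Fin.insertNth_apply_same, map_one]
      exact (Misc3Bertini.frac_self k n j).symm
    · rw [affCoord, Fin.insertNth_apply_succAbove, toAway, MvPolynomial.eval₂Hom_X']

theorem toAway_affEq {d : ℕ} (G : LefPen.Form n k d) :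
    toAway j (affEq j G) =
      Away.mk ℙg (LefPen.X_mem n k j) d G.1 (by rw [smul_eq_mul, mul_one]; exact G.2) := by
  have hG : G.1 ∈ ℙg (d • 1) := by rw [smul_eq_mul, mul_one]; exact G.2
  rw [affEq, ← ofAway_evalFrac j hG, toAway_ofAway, Misc3Bertini.evalFrac_eq_mk k n j hG]

/-- The chart of projective space, as a morphism to the spectrum of the field. -/
theorem appLE_toSpec (c : k) :
    (CohB1.ProjSpace.toSpec n k).appLE ⊤ (LefPen.chart n k j) le_top
        ((Scheme.ΓSpecIso (CommRingCat.of k)).inv c) =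
      Proj.awayToSection ℙg (MvPolynomial.X j) (Misc3Bertini.scalar k n j c) := by
  let U : (Proj ℙg).Opens := Proj.basicOpen ℙg (MvPolynomial.X j)
  let f : CommRingCat.of k ⟶ Γ(Proj ℙg, U) :=
    CommRingCat.ofHom (Misc3Bertini.scalar k n j) ≫ Proj.awayToSection ℙg (MvPolynomial.X j)
  let g : CommRingCat.of k ⟶ Γ(Proj ℙg, U) :=
    (Scheme.ΓSpecIso (CommRingCat.of k)).inv ≫ (CohB1.ProjSpace.toSpec n k).appTop ≫
      (Proj ℙg).presheaf.map (homOfLE (le_top : U ≤ ⊤)).op
  suffices h : f = g by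
    have := congr($h c)
    exact this.symm
  apply Groth.Chow.ProjUnique.toSpecΓ_cancel
  have h1 : U.ι ≫ CohB1.ProjSpace.toSpec n k = U.toSpecΓ ≫ Spec.map f := by
    have e : U.ι = Proj.basicOpenToSpec ℙg (MvPolynomial.X j) ≫
        Proj.awayι ℙg (MvPolynomial.X j) (LefPen.X_mem n k j) one_pos := by
      rw [Proj.awayι, ← Proj.basicOpenIsoSpec_hom ℙg (MvPolynomial.X j) (LefPen.X_mem n k j) one_pos,
        Iso.hom_inv_id_assoc]
    rw [e, CohB1.ProjSpace.toSpec, Category.assoc]
    erw [Proj.awayι_toSpecZero_assoc]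
    rw [Proj.basicOpenToSpec, Category.assoc, ← Spec.map_comp, ← Spec.map_comp]
    rfl
  rw [← h1]
  show _ = U.toSpecΓ ≫ Spec.map ((Scheme.ΓSpecIso (CommRingCat.of k)).inv ≫
    (CohB1.ProjSpace.toSpec n k).appTop ≫ (Proj ℙg).presheaf.map (homOfLE (le_top : U ≤ ⊤)).op)
  rw [Spec.map_comp, Spec.map_comp]
  simp only [Category.assoc]
  erw [reassoc_of% (Scheme.Opens.toSpecΓ_SpecMap_presheaf_map_top (X := Proj ℙg) U)]
  erw [← Scheme.toSpecΓ_naturality_assoc]
  rw [toSpecΓ_SpecMap_ΓSpecIso_inv]
  rfl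

/-- Smoothness is insensitive to ring isomorphisms on both sides. -/
theorem smooth_comp_ringEquiv_iff {A B R S : Type u} [CommRing A] [CommRing B] [CommRing R]
    [CommRing S] (e : A ≃+* B) (g : B →+* R) (E : R ≃+* S) :
    RingHom.Smooth ((E.toRingHom.comp g).comp e.toRingHom) ↔ RingHom.Smooth g := by
  refine ⟨fun h => ?_, fun h =>
    RingHom.Smooth.respectsIso.2 _ e (RingHom.Smooth.respectsIso.1 _ E h)⟩
  have h1 := RingHom.Smooth.respectsIso.1 _ E.symm (RingHom.Smooth.respectsIso.2 _ e.symm h)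
  convert h1 using 1
  ext x
  simp

variable {d : ℕ} {G : LefPen.Form n k d}
  [inst : ((LefPen.hypIdeal G).subscheme).Over (Spec (CommRingCat.of k))]
  (hinst : (LefPen.hypIdeal G).subscheme ↘ (Spec (CommRingCat.of k)) =
    (LefPen.hypIdeal G).subschemeι ≫ CohB1.ProjSpace.toSpec n k)

include hinst in
/-- Smoothness of a hypersurface in a chart is smoothness of the affine hypersurface. -/
theorem smooth_appLE_iff :
    RingHom.Smooth (((LefPen.hypIdeal G).subscheme ↘ Spec (CommRingCat.of k)).appLE ⊤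
        ((LefPen.hypIdeal G).subschemeι ⁻¹ᵁ LefPen.chart n k j) le_top).hom ↔
      Algebra.Smooth k (MvPolynomial (Fin n) k ⧸ Ideal.span {affEq j G}) := by
  let U : (CohB1.ProjSpace n k).affineOpens :=
    ⟨LefPen.chart n k j, Proj.isAffineOpen_basicOpen ℙg _ (LefPen.X_mem n k j) one_pos⟩
  let ι := (LefPen.hypIdeal G).subschemeι
  let φ : Away ℙg (MvPolynomial.X j) →+* Γ(CohB1.ProjSpace n k, U.1) :=
    (Proj.awayToSection ℙg (MvPolynomial.X j)).hom
  have hφ : Function.Bijective φ := ConcreteCategory.bijective_of_isIso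
    (Proj.basicOpenIsoAway ℙg (MvPolynomial.X j) (LefPen.X_mem n k j) one_pos).hom
  let π : MvPolynomial (Fin n) k →+* Γ((LefPen.hypIdeal G).subscheme, ι ⁻¹ᵁ U.1) :=
    (ι.app U.1).hom.comp (φ.comp (toAway j))
  have hπs : Function.Surjective π := by
    intro y
    obtain ⟨x, rfl⟩ := (LefPen.hypIdeal G).subschemeι_app_surjective U y
    obtain ⟨z, rfl⟩ := hφ.2 x
    exact ⟨ofAway j z, by rw [RingHom.comp_apply, RingHom.comp_apply, toAway_ofAway]⟩
  have hI : (LefPen.hypIdeal G).ideal U = Ideal.span {LefPen.dehom G j} := by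
    rw [hypIdeal_eq_zeroScheme]
    exact Variety2.Zero.zeroScheme_ideal_eq_span (isInvertible_twistProjSpace _) _ U
      (gen_frame (k := k) j d) (c := LefPen.dehom G j)
      ((formHom_app_of_le G j le_rfl).trans (by rw [resX_self, res_self]))
  have hker : RingHom.ker π = Ideal.span {affEq j G} := by
    ext p
    have hk : p ∈ RingHom.ker π ↔ φ (toAway j p) ∈ Ideal.span {LefPen.dehom G j} := by
      rw [← hI, ← (LefPen.hypIdeal G).ker_subschemeι_app U]
      exact Iff.rfl
    rw [hk, Ideal.mem_span_singleton, Ideal.mem_span_singleton]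
    have hd : LefPen.dehom G j = φ (toAway j (affEq j G)) := by
      rw [toAway_affEq]
      rfl
    rw [hd]
    constructor
    · rintro ⟨c, hc⟩
      obtain ⟨z, rfl⟩ := hφ.2 c
      rw [← map_mul] at hc
      refine ⟨ofAway j z, ?_⟩
      have := congrArg (ofAway j) (hφ.1 hc)
      rwa [ofAway_toAway, map_mul, ofAway_toAway] at this
    · rintro ⟨c, rfl⟩
      exact ⟨φ (toAway j c), by rw [map_mul, map_mul]⟩
  let E : (MvPolynomial (Fin n) k ⧸ Ideal.span {affEq j G}) ≃+*
      Γ((LefPen.hypIdeal G).subscheme, ι ⁻¹ᵁ U.1) :=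
    (Ideal.quotEquivOfEq hker.symm).trans (RingHom.quotientKerEquivOfSurjective hπs)
  set q := ((LefPen.hypIdeal G).subscheme ↘ Spec (CommRingCat.of k)).appLE ⊤
    (ι ⁻¹ᵁ U.1) le_top with hq
  have hcomp : q.hom = (E.toRingHom.comp (algebraMap k _)).comp
      (Scheme.ΓSpecIso (CommRingCat.of k)).commRingCatIsoToRingEquiv.toRingHom := by
    refine RingHom.ext fun c => ?_
    obtain ⟨c, rfl⟩ := (ConcreteCategory.bijective_of_isIso
      (Scheme.ΓSpecIso (CommRingCat.of k)).inv).2 c
    have h2 : q ((Scheme.ΓSpecIso (CommRingCat.of k)).inv c) = π (MvPolynomial.C c) := by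
      have e0 : q = (CohB1.ProjSpace.toSpec n k).appLE ⊤ U.1 le_top ≫ ι.app U.1 := by
        rw [hq, Scheme.Hom.app_eq_appLE, Scheme.Hom.appLE_comp_appLE]
        simp only [hinst]
        rfl
      rw [e0, CommRingCat.comp_apply, appLE_toSpec]
      simp only [π, RingHom.comp_apply, toAway, MvPolynomial.eval₂Hom_C]
      rfl
    refine h2.trans ?_
    have h3 : (Scheme.ΓSpecIso (CommRingCat.of k)).commRingCatIsoToRingEquiv.toRingHom
        ((Scheme.ΓSpecIso (CommRingCat.of k)).inv c) = c :=
      congr($((Scheme.ΓSpecIso (CommRingCat.of k)).inv_hom_id) c)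
    exact Eq.trans rfl (congrArg (fun x => E.toRingHom (algebraMap k _ x)) h3.symm)
  show RingHom.Smooth q.hom ↔ _
  rw [hcomp, smooth_comp_ringEquiv_iff, RingHom.smooth_algebraMap]

end Groth.PlaneCurve
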