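import Groth.Agent.PlaneCurve.RegCurveDegree
import Groth.Agent.PlaneCurve.SeriesMap
import Groth.Agent.PlaneCurve.SmoothChart
import Groth.Agent.PlaneCurve.CurveH0
import Groth.Agent.Variety2.ProjDim
import Groth.Agent.Curves1.RR.GenusZeroP1
import Groth.Agent.FunFld1.Rational

/-!
The morphism of a pencil: nonconstant of degree at most `d`, or constant.
-/

set_option linter.style.haveILetI false
set_option linter.unusedSectionVars false

universe u

open CategoryTheory AlgebraicGeometry Opposite TopologicalSpace WithZero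
open Groth.PicAux Groth.Chow Groth.FunFld1 Groth.CurveBridge

namespace Groth.PlaneCurve.SeriesDegree

variable {k : Type u} [Field k] {X : Scheme.{u}} [X.Over (Spec (CommRingCat.of k))] [IsIntegral X]

theorem linearIndependent_zv {L : X.Modules} (φ : L ⟶ constK X) [Mono φ] {n : ℕ}
    (s : Fin n → LinSer.Sect X L) (hs : LinSer.LinIndep k X L s) :
    LinearIndependent k fun l => zv φ (s l) := by
  rw [Fintype.linearIndependent_iff]
  intro c hc i
  refine congrFun (hs c ?_) i
  refine app_injective φ ⊤ (constK_ext fun hU => ?_)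
  refine Eq.trans ?_ (hc.trans (by erw [map_zero, map_zero]))
  erw [map_sum, map_sum]
  refine Finset.sum_congr rfl fun l _ => ?_
  erw [Scheme.Modules.Hom.app_smul, kv_smul]
  rw [Algebra.smul_def]
  rfl

theorem germ_injective (Y : Scheme.{u}) [IsIntegral Y] {U : Y.Opens} (y : Y) (hy : y ∈ U) :
    Function.Injective (Y.presheaf.germ U y hy) := by
  intro a b hab
  refine germ_injective_of_isIntegral Y (U := U) (genericPoint Y) (generic_mem U hy) ?_
  have := congrArg (Y.presheaf.stalkSpecializes (genericPoint_specializes y)) hab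
  rwa [TopCat.Presheaf.germ_stalkSpecializes_apply,
    TopCat.Presheaf.germ_stalkSpecializes_apply] at this

theorem injective_of_isField {R K : Type*} [CommRing R] [Field K] (hR : IsField R) (Φ : R →+* K) :
    Function.Injective Φ := by
  refine (injective_iff_map_eq_zero Φ).2 fun a ha => ?_
  by_contra hne
  obtain ⟨b, hb⟩ := hR.mul_inv_cancel hne
  have := congrArg Φ hb
  rw [map_mul, ha, zero_mul, map_one] at this
  exact zero_ne_one this

/-- A ring map whose image contains `k` and `t` bounds the degree by that of `k(t)`. -/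
theorem finrank_le_adjoin {R K : Type u} [CommRing R] [Field K] [Algebra k K] (Φ : R →+* K) (t : K)
    (hk : ∀ a, algebraMap k K a ∈ Φ.range) (ht : t ∈ Φ.range)
    [FiniteDimensional (IntermediateField.adjoin k ({t} : Set K)) K] :
    letI := Φ.toAlgebra
    Module.finrank R K ≤ Module.finrank (IntermediateField.adjoin k ({t} : Set K)) K := by
  letI := Φ.toAlgebra
  haveI : Nontrivial R := Φ.domain_nontrivial
  classical
  set F := IntermediateField.adjoin k ({t} : Set K)
  have hpoly : ∀ p : Polynomial k, Polynomial.aeval t p ∈ Φ.range := fun p => by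
    induction p using Polynomial.induction_on with
    | C a => rw [Polynomial.aeval_C]; exact hk a
    | add p q hp hq => rw [map_add]; exact add_mem hp hq
    | monomial n a _ =>
      rw [map_mul, map_pow, Polynomial.aeval_C, Polynomial.aeval_X]
      exact mul_mem (hk a) (pow_mem ht _)
  have hfrac : ∀ c : F, ∃ d : K, d ≠ 0 ∧ d ∈ Φ.range ∧ d * c.1 ∈ Φ.range := fun c => by
    obtain ⟨p, q, hpq⟩ := (IntermediateField.mem_adjoin_simple_iff k (c.1)).1 c.2
    by_cases hq : Polynomial.aeval t q = 0
    · refine ⟨1, one_ne_zero, one_mem _, ?_⟩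
      rw [hpq, hq, div_zero, mul_zero]
      exact zero_mem _
    · exact ⟨_, hq, hpoly q, by rw [hpq, mul_div_cancel₀ _ hq]; exact hpoly p⟩
  refine Module.finrank_le_of_rank_le (rank_le fun S hS => ?_)
  have hindep : LinearIndependent F (fun v : S => (v : K)) := by
    rw [Fintype.linearIndependent_iff]
    intro c hc i
    choose d hd0 hd hdc using hfrac
    have hmem : ∀ v : S, (∏ w : S, d (c w)) * (c v).1 ∈ Φ.range := fun v => by
      rw [← Finset.mul_prod_erase _ _ (Finset.mem_univ v), mul_right_comm]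
      exact mul_mem (hdc (c v)) (prod_mem fun w _ => hd (c w))
    choose a ha using hmem
    have h0 := Fintype.linearIndependent_iff.1 hS a (by
      simp only [Algebra.smul_def, RingHom.algebraMap_toAlgebra, ha, mul_assoc, ← Finset.mul_sum]
      refine mul_eq_zero_of_right _ (Eq.trans (Finset.sum_congr rfl fun v _ => ?_) hc)
      rw [Algebra.smul_def]; rfl) i
    have h1 := ha i
    rw [h0, map_zero] at h1
    exact Subtype.ext ((mul_eq_zero.1 h1.symm).resolve_left
      (Finset.prod_ne_zero_iff.2 fun w _ => hd0 (c w)))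
  simpa using hindep.fintype_card_le_finrank

variable [IsProper (X ↘ Spec (CommRingCat.of k))]

/-- The morphism attached to a pencil is nonconstant of degree at most `d`, or constant; in the
second case there are nonconstant global functions. -/
theorem degree_dichotomy (h : IsRegCurve X) {L : X.Modules} (hL : PicF.IsInvertible L) {d : ℕ}
    (hd : Curv2.deg k X L 1 = d)
    (s : Fin (1 + 1) → LinSer.Sect X L) (hs : LinSer.LinIndep k X L s)
    (f : X ⟶ CohB1.ProjSpace 1 k)
    (α : (Scheme.Modules.pullback f).obj (Twist.twistProjSpace 1 k 1) ⟶ L)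
    (hf : f ≫ CohB1.ProjSpace.toSpec 1 k = X ↘ (Spec (CommRingCat.of k)))
    (hα : ∀ l, α.app ⊤ (ProjUP.pullSec f (Twist.twistProjSpace 1 k 1) (ToPn.co 1 k l)) = s l) :
    ((¬ ∃ p : CohB1.ProjSpace 1 k, IsClosed ({p} : Set (CohB1.ProjSpace 1 k)) ∧ Set.range f ⊆ {p}) ∧
      (letI := (f.stalkMap (genericPoint X)).hom.toAlgebra
       Module.finrank ((CohB1.ProjSpace 1 k).presheaf.stalk (f (genericPoint X))) X.functionField ≤ d)) ∨
    ((∃ p : CohB1.ProjSpace 1 k, IsClosed ({p} : Set (CohB1.ProjSpace 1 k)) ∧ Set.range f ⊆ {p}) ∧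
      Module.finrank k (Coh.HH X (Coh.structureModule X) 0) ≠ 1) := by
  classical
  obtain ⟨φ, D, hφ, hdeg⟩ := RegCurveDegree.exists_divEmb_deg (k := k) h hL
  haveI := hφ.1
  have hli := linearIndependent_zv φ s hs
  obtain ⟨i, hi⟩ : ∃ i : Fin (1 + 1),
      f (genericPoint X) ∈ Proj.basicOpen (CohB1.polyGrading 1 k) (MvPolynomial.X i) :=
    Opens.mem_iSup.mp ((Proj.iSup_basicOpen_eq_top (CohB1.polyGrading 1 k) _
      (ToPn.irrelevant_le_span_X (R := k) (n := 1))).ge (Set.mem_univ _))
  obtain ⟨j, hij⟩ : ∃ j : Fin (1 + 1), j ≠ i := exists_ne i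
  let U : (CohB1.ProjSpace 1 k).Opens := Proj.basicOpen (CohB1.polyGrading 1 k) (MvPolynomial.X i)
  let u : Γ(CohB1.ProjSpace 1 k, U) :=
    Proj.awayToSection (CohB1.polyGrading 1 k) (MvPolynomial.X i) (Misc3Bertini.frac k 1 i j)
  let W : X.Opens := f ⁻¹ᵁ U
  have hηW : genericPoint X ∈ W := hi
  have hz0 : zv φ (s i) ≠ 0 := hli.ne_zero i
  have hrel : zv φ (s j) =
      X.presheaf.germ W (genericPoint X) hηW (f.app U u) * zv φ (s i) := by
    have h1 : res _ (le_top : W ≤ ⊤) (ProjUP.pullSec f (ToPn.O1 1 k) (ToPn.co 1 k j) :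
          Γ((Scheme.Modules.pullback f).obj (ToPn.O1 1 k), ⊤)) =
        f.app U u • res _ (le_top : W ≤ ⊤) (ProjUP.pullSec f (ToPn.O1 1 k) (ToPn.co 1 k i) :
          Γ((Scheme.Modules.pullback f).obj (ToPn.O1 1 k), ⊤)) := by
      have e : ∀ l, res _ (le_top : W ≤ ⊤) (ProjUP.pullSec f (ToPn.O1 1 k) (ToPn.co 1 k l) :
          Γ((Scheme.Modules.pullback f).obj (ToPn.O1 1 k), ⊤)) =
            pullSec f (ToPn.O1 1 k) (res (ToPn.O1 1 k) (le_top : U ≤ ⊤) (ToPn.co 1 k l)) := fun l =>
        res_pullSec f (ToPn.O1 1 k) (le_top : U ≤ ⊤) _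
      rw [e, e]
      erw [(ToPn.res_coord (R := k) i j).2, pullSec_smul]
      rfl
    have h2 := congrArg (fun m => kv hηW (φ.app W (α.app W m))) h1
    erw [app_res, app_res, Scheme.Modules.Hom.app_smul, Scheme.Modules.Hom.app_smul, kv_smul,
      app_res, app_res, hα, hα, kv_res, kv_res] at h2
    refine Eq.trans (Eq.trans rfl h2) (congrArg (_ * ·) ?_)
    exact kv_res (le_top : W ≤ ⊤) hηW _
    exact le_rfl
  by_cases hc : IsClosed ({f (genericPoint X)} : Set (CohB1.ProjSpace 1 k))
  · right
    have hrange : Set.range f ⊆ {f (genericPoint X)} := by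
      rintro _ ⟨x, rfl⟩
      exact ((genericPoint_specializes x).map f.continuous).mem_closed hc rfl
    refine ⟨⟨_, hc, hrange⟩, fun h0 => ?_⟩
    have htop : (⊤ : X.Opens) ≤ W := fun x _ => by
      show f x ∈ U
      rw [Set.mem_singleton_iff.1 (hrange ⟨x, rfl⟩)]
      exact hi
    obtain ⟨e, he⟩ := Groth.Limits.FibreVanishing.exists_h0_equiv k X
    obtain ⟨v, -, hv⟩ := finrank_eq_one_iff'.1 h0
    obtain ⟨a₁, ha₁⟩ := hv (e.symm (X.presheaf.map (homOfLE htop).op (f.app U u)))
    obtain ⟨a₀, ha₀⟩ := hv (e.symm 1)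
    have e1 := he a₁ v
    have e0 := he a₀ v
    rw [ha₁, e.apply_symm_apply] at e1
    rw [ha₀, e.apply_symm_apply] at e0
    have hg : ∀ a, X.presheaf.germ ⊤ (genericPoint X) trivial
        (Groth.Limits.FibreVanishing.globalMap k X a) = algebraMap k X.functionField a := fun a => rfl
    set g := X.presheaf.germ ⊤ (genericPoint X) trivial (e v)
    have f0 : (1 : X.functionField) = algebraMap k X.functionField a₀ * g := by
      have := congrArg (X.presheaf.germ ⊤ (genericPoint X) trivial) e0
      rwa [map_one, map_mul, hg] at this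
    have f1 : X.presheaf.germ W (genericPoint X) hηW (f.app U u) =
        algebraMap k X.functionField a₁ * g := by
      have := congrArg (X.presheaf.germ ⊤ (genericPoint X) trivial) e1
      rwa [map_mul, hg, TopCat.Presheaf.germ_res_apply] at this
    have hdep : algebraMap k X.functionField a₀ * zv φ (s j) =
        algebraMap k X.functionField a₁ * zv φ (s i) := by
      rw [hrel, f1]
      linear_combination (-(algebraMap k X.functionField a₁ * zv φ (s i))) * f0
    have h3 := Fintype.linearIndependent_iff.1 hli (Pi.single j a₀ - Pi.single i a₁) (by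
      simp only [Pi.sub_apply, sub_smul, map_sub, sub_mul, Finset.sum_sub_distrib, Algebra.smul_def, Pi.single_apply,
        apply_ite (algebraMap k X.functionField), map_zero, ite_mul, zero_mul, Finset.sum_ite_eq',
        Finset.mem_univ, if_true]
      rw [hdep, sub_self]) j
    rw [Pi.sub_apply, Pi.single_eq_same, Pi.single_eq_of_ne hij, sub_zero] at h3
    rw [h3, map_zero, zero_mul] at f0
    exact one_ne_zero f0
  left
  refine ⟨fun ⟨p, hp, hr⟩ => hc ((Set.mem_singleton_iff.1 (hr ⟨genericPoint X, rfl⟩)).symm ▸ hp), ?_⟩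
  have hgen : f (genericPoint X) = genericPoint ↥(CohB1.ProjSpace 1 k) :=
    Groth.Curves1.CurveMor.eq_genericPoint_of_not_isClosed (CohB1.ProjSpace.toSpec 1 k)
      (Groth.Variety2.PSpace.dim_projSpace (k := k) (n := 1)).le hc
  haveI : AlgebraicGeometry.IsIntegral (Proj (CohB1.polyGrading 1 k)) :=
    Groth.Curves1.RR.isIntegral_projSpace k 1
  let Φ : (CohB1.ProjSpace 1 k).presheaf.stalk (f (genericPoint X)) →+* X.functionField :=
    (f.stalkMap (genericPoint X)).hom
  have hΦ : Function.Injective Φ := injective_of_isField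
    (by rw [hgen]; exact Field.toIsField (CohB1.ProjSpace 1 k).functionField) Φ
  let ψ : HomogeneousLocalization.Away (CohB1.polyGrading 1 k) (MvPolynomial.X i) →+* X.functionField :=
    Φ.comp (((CohB1.ProjSpace 1 k).presheaf.germ U (f (genericPoint X)) hi).hom.comp
      (Proj.awayToSection (CohB1.polyGrading 1 k) (MvPolynomial.X i)).hom)
  have hψ : Function.Injective ψ := hΦ.comp ((germ_injective _ _ hi).comp
    (ConcreteCategory.bijective_of_isIso (Proj.basicOpenIsoAway (CohB1.polyGrading 1 k)
      (MvPolynomial.X i) (ToPn.X_mem i) one_pos).hom).1)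
  set t := zv φ (s j) / zv φ (s i) with htdef
  have ht : t = ψ (Misc3Bertini.frac k 1 i j) := by
    rw [htdef, hrel, mul_div_assoc, div_self hz0, mul_one]
    exact (Scheme.Hom.germ_stalkMap_apply f U (genericPoint X) hi u).symm
  have hk : ∀ a, ψ (Misc3Bertini.scalar k 1 i a) = algebraMap k X.functionField a := fun a => by
    change Φ ((CohB1.ProjSpace 1 k).presheaf.germ U _ hi
      (Proj.awayToSection _ _ (Misc3Bertini.scalar k 1 i a))) = _
    erw [← appLE_toSpec (k := k) i a]
    rw [Scheme.Hom.appLE, CommRingCat.comp_apply]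
    erw [TopCat.Presheaf.germ_res_apply]
    refine (Scheme.Hom.germ_stalkMap_apply f ⊤ (genericPoint X) trivial _).trans ?_
    change X.presheaf.germ ⊤ (genericPoint X) trivial
      ((f ≫ CohB1.ProjSpace.toSpec 1 k).appTop _) = _
    rw [hf]
    rfl
  have htr : Transcendental k t := by
    rw [transcendental_iff_injective, injective_iff_map_eq_zero]
    intro p hp
    have e : Polynomial.aeval t p =
        ψ (Polynomial.eval₂ (Misc3Bertini.scalar k 1 i) (Misc3Bertini.frac k 1 i j) p) := by
      rw [Polynomial.hom_eval₂, ← ht, Polynomial.aeval_def]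
      exact congrArg (fun g => Polynomial.eval₂ g t p) (RingHom.ext fun a => (hk a).symm)
    rw [e, ← map_zero ψ] at hp
    have h1 := congrArg (fun z => MvPolynomial.eval₂Hom (Polynomial.C (R := k)) (fun _ : Fin 1 => Polynomial.X)
      (ofAway i z)) (hψ hp)
    simp only [map_zero, Polynomial.hom_eval₂] at h1
    have hc1 : ∀ a, MvPolynomial.eval₂Hom (Polynomial.C (R := k)) (fun _ : Fin 1 => Polynomial.X)
        (ofAway i (Misc3Bertini.scalar k 1 i a)) = Polynomial.C a := fun a => by
      rw [ofAway_scalar, MvPolynomial.eval₂Hom_C]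
    have hX1 : MvPolynomial.eval₂Hom (Polynomial.C (R := k)) (fun _ : Fin 1 => Polynomial.X)
        (ofAway i (Misc3Bertini.frac k 1 i j)) = Polynomial.X := by
      obtain ⟨l, rfl⟩ := Fin.exists_succAbove_eq hij
      rw [ofAway_frac, affCoord, Fin.insertNth_apply_succAbove, MvPolynomial.eval₂Hom_X']
    rw [hX1, show ((MvPolynomial.eval₂Hom (Polynomial.C (R := k)) (fun _ : Fin 1 => Polynomial.X)).comp
      ((ofAway i).comp (Misc3Bertini.scalar k 1 i))) = Polynomial.C from RingHom.ext hc1] at h1
    rwa [Polynomial.eval₂_C_X] at h1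
  have hF := isFF k X h.dim
  let E := D + FunFld.div k (zv φ (s i))
  have hE : 0 ≤ E := fun P => by
    have h1 := zv_mem h hφ (s i) P
    rw [Groth.FunFld1.val_eq_exp_neg_ord P hz0, exp_le_exp] at h1
    simp only [E, Finsupp.coe_zero, Pi.zero_apply, Finsupp.add_apply, hF.div_apply]
    omega
  have htE : t ∈ FunFld.L E := fun P => by
    rw [htdef, map_div₀, Groth.FunFld1.val_eq_exp_neg_ord P hz0, div_le_iff₀ exp_pos,
      Finsupp.add_apply, hF.div_apply, ← exp_add, add_neg_cancel_right]
    exact zv_mem h hφ (s j) P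
  have hle : (Module.finrank (IntermediateField.adjoin k ({t} : Set X.functionField)) X.functionField : ℤ) ≤ d := by
    rw [← hF.deg_poleDiv_eq htr]
    refine (deg_mono (hF.deg_poleDiv_le_of_mem_L hE htE)).trans_eq ?_
    rw [Groth.FunFld1.deg_add, hF.deg_div, add_zero, ← hdeg, hd]
  haveI := IsFF.finiteDimensional hF htr
  refine (finrank_le_adjoin Φ t (fun a => ⟨_, hk a⟩) ⟨_, ht.symm⟩).trans ?_
  exact_mod_cast hle

end Groth.PlaneCurve.SeriesDegree
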