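import Mathlib
import Groth.Agent.SGA7.PowerSeries
import Groth.Agent.Ega4Algebra2.CplQuot
import Groth.Prelude.Def_DualGr

/-!
Uniqueness of the thickness of a formal node.
-/

set_option autoImplicit false

universe u

open MvPowerSeries Groth.SGA7.PS IsLocalRing

namespace Groth.PlaneCurve.ThickUnique

section Coeff

variable {σ : Type} {R : Type u} [CommRing R]

lemma coeff_one_mul (i : σ) (F G : MvPowerSeries σ R) :
    coeff (Finsupp.single i 1) (F * G) =
      constantCoeff F * coeff (Finsupp.single i 1) G + coeff (Finsupp.single i 1) F * constantCoeff G := by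
  classical
  rw [coeff_mul, Finsupp.antidiagonal_single, Finset.sum_map,
    Finset.Nat.sum_antidiagonal_eq_sum_range_succ_mk]
  simp [Finset.sum_range_succ]

end Coeff

variable {R : Type u} [CommRing R] [IsLocalRing R] [IsNoetherianRing R] (a b : R)

local notation "Â" => Curv2.cpl R
local notation "ι" => algebraMap R (Curv2.cpl R)

/-- Isomorphic node models have thickness ideals contained in one another. -/
theorem mem_span_of_equiv (ha : a ∈ maximalIdeal R) (hb : b ∈ maximalIdeal R)
    (e : DualGr.nodeRing R a ≃+* DualGr.nodeRing R b)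
    (he : ∀ r : R, e (Ideal.Quotient.mk _ (C (ι r))) = Ideal.Quotient.mk _ (C (ι r))) :
    ι a ∈ Ideal.span {ι b} := by
  classical
  haveI : IsNoetherianRing Â := Groth.Ega4b.isNoetherianRing_cpl R
  have hm : maximalIdeal Â = (maximalIdeal R).map ι := AdicCompletion.maximalIdeal_eq_map
  have hbm : ι b ∈ maximalIdeal Â := hm ▸ Ideal.mem_map_of_mem _ hb
  have ham : ι a ∈ maximalIdeal Â := hm ▸ Ideal.mem_map_of_mem _ ha
  -- the map to the residue field at the closed point
  let ε : ∀ c : R, c ∈ maximalIdeal R → DualGr.nodeRing R c →+* ResidueField Â := fun c hc =>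
    Ideal.Quotient.lift _ ((residue Â).comp constantCoeff) (fun x hx => by
      obtain ⟨y, rfl⟩ := Ideal.mem_span_singleton'.1 hx
      simp only [RingHom.comp_apply, map_mul, map_sub, constantCoeff_X, mul_zero, constantCoeff_C,
        zero_sub, map_neg, (residue_eq_zero_iff _).2 (hm ▸ Ideal.mem_map_of_mem ι hc : ι c ∈ maximalIdeal Â)]
      simp)
  obtain ⟨U, hU⟩ := Ideal.Quotient.mk_surjective (e (Ideal.Quotient.mk _ (X 0)))
  obtain ⟨V, hV⟩ := Ideal.Quotient.mk_surjective (e (Ideal.Quotient.mk _ (X 1)))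
  have hmax : ∀ (i : Fin 2) (W : MvPowerSeries (Fin 2) Â),
      Ideal.Quotient.mk _ W = e (Ideal.Quotient.mk _ (X i)) → constantCoeff W ∈ maximalIdeal Â := by
    intro i W hW hu
    have h1 : IsUnit W := isUnit_iff_constantCoeff.2 hu
    have h2 := (h1.map (Ideal.Quotient.mk _)).map e.symm
    rw [hW, e.symm_apply_apply] at h2
    have h3 := h2.map (ε a ha)
    simp [ε] at h3
  have hu0 := hmax 0 U hU
  have hv0 := hmax 1 V hV
  -- constants in the maximal ideal stay in the maximal ideal
  let P := MvPowerSeries (Fin 2) Â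
  let qa := Ideal.Quotient.mk (Ideal.span {(X 0 * X 1 - C (ι a) : P)})
  let qb := Ideal.Quotient.mk (Ideal.span {(X 0 * X 1 - C (ι b) : P)})
  have hCm : ∀ y ∈ ((maximalIdeal Â).map (C : Â →+* P)).map qa,
      e y ∈ ((maximalIdeal Â).map (C : Â →+* P)).map qb := by
    have : (((maximalIdeal Â).map (C : Â →+* P)).map qa).map e.toRingHom ≤
        ((maximalIdeal Â).map (C : Â →+* P)).map qb := by
      rw [hm, Ideal.map_map, Ideal.map_map, Ideal.map_map, Ideal.map_map, Ideal.map_map,
        Ideal.map_le_iff_le_comap]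
      intro r hr
      rw [Ideal.mem_comap]
      change e (qa (C (ι r))) ∈ _
      rw [he r]
      exact Ideal.mem_map_of_mem ((qb.comp C).comp ι) hr
    exact fun y hy => this (Ideal.mem_map_of_mem e.toRingHom hy)
  have hres : ∀ y : Â, ∃ r : R, y - ι r ∈ maximalIdeal Â := by
    intro y
    obtain ⟨t, ht⟩ := (AdicCompletion.residueField_map_bijective R).2 (residue Â y)
    obtain ⟨r, rfl⟩ := residue_surjective t
    refine ⟨r, ?_⟩
    rw [ResidueField.map_residue] at ht
    exact Ideal.Quotient.eq.mp ht.symm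
  -- linear parts
  let π : P →+* MvPowerSeries (Fin 2) (ResidueField Â) := MvPowerSeries.map (residue Â)
  have key : ∀ j : Fin 2, ∃ q₁ q₂ : Â, ∀ i : Fin 2,
      residue Â (q₁ * coeff (Finsupp.single i 1) U + q₂ * coeff (Finsupp.single i 1) V) =
        if i = j then 1 else 0 := by
    intro j
    obtain ⟨p, hp⟩ := Ideal.Quotient.mk_surjective (e.symm (qb (X j)))
    obtain ⟨h, hh, -⟩ := exists_sum_X_mul (p - C (constantCoeff p)) (by simp)
    obtain ⟨r, hr⟩ := hres (constantCoeff p)
    obtain ⟨Q₁, hQ₁⟩ := Ideal.Quotient.mk_surjective (e (qa (h 0)))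
    obtain ⟨Q₂, hQ₂⟩ := Ideal.Quotient.mk_surjective (e (qa (h 1)))
    refine ⟨constantCoeff Q₁, constantCoeff Q₂, fun i => ?_⟩
    have h1 : qb (X j - (C (ι r) + U * Q₁ + V * Q₂)) ∈ ((maximalIdeal Â).map (C : Â →+* P)).map qb := by
      have h2 : qa (p - (C (ι r) + X 0 * h 0 + X 1 * h 1)) ∈
          ((maximalIdeal Â).map (C : Â →+* P)).map qa := by
        rw [Fin.sum_univ_two] at hh
        rw [show p - (C (ι r) + X 0 * h 0 + X 1 * h 1) = C (constantCoeff p - ι r) by
          rw [map_sub]; linear_combination hh]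
        exact Ideal.mem_map_of_mem qa (Ideal.mem_map_of_mem C hr)
      have h3 := hCm _ h2
      rw [map_sub, map_sub, map_add, map_add, map_add, map_add, map_mul, map_mul, map_mul, map_mul,
        hp, e.apply_symm_apply, he r, ← hU, ← hV, ← hQ₁, ← hQ₂] at h3
      rw [map_sub, map_add, map_add, map_mul, map_mul]
      exact h3
    rw [Ideal.mem_map_iff_of_surjective _ Ideal.Quotient.mk_surjective] at h1
    obtain ⟨z, hz, hz'⟩ := h1
    obtain ⟨w, hw⟩ := Ideal.mem_span_singleton'.1 (Ideal.Quotient.eq.1 hz')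
    have hzπ : π z = 0 := by
      have : (maximalIdeal Â).map (C : Â →+* P) ≤ RingHom.ker π := by
        rw [Ideal.map_le_iff_le_comap]
        intro y hy
        rw [Ideal.mem_comap, RingHom.mem_ker, map_C, (residue_eq_zero_iff _).2 hy, map_zero]
      exact this hz
    have h4 := congrArg (fun t => residue Â (coeff (Finsupp.single i 1) t)) hw
    simp only [map_mul, map_sub, map_add, coeff_one_mul, constantCoeff_X, constantCoeff_C,
      (residue_eq_zero_iff _).2 hu0, (residue_eq_zero_iff _).2 hv0, (residue_eq_zero_iff _).2 hbm,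
      coeff_C, coeff_X, Finsupp.single_eq_zero, one_ne_zero, if_false, mul_zero, zero_mul, add_zero,
      zero_add, map_zero, sub_zero, Finsupp.single_left_inj one_ne_zero, apply_ite (residue Â),
      map_one] at h4
    have h5 : residue Â (coeff (Finsupp.single i 1) z) = 0 := by rw [← coeff_map, hzπ, map_zero]
    rw [h5, zero_sub] at h4
    simp only [map_mul, map_add] at h4 ⊢
    linear_combination -h4
  obtain ⟨p₁, q₁, hpq₁⟩ := key 0
  obtain ⟨p₂, q₂, hpq₂⟩ := key 1
  set al := coeff (Finsupp.single 0 1) U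
  set be := coeff (Finsupp.single 1 1) U
  set al' := coeff (Finsupp.single 0 1) V
  set be' := coeff (Finsupp.single 1 1) V
  have hdet : IsUnit (al * be' - be * al') := by
    have e00 : residue Â (p₁ * al + q₁ * al') = 1 := by simpa using hpq₁ 0
    have e01 : residue Â (p₁ * be + q₁ * be') = 0 := by simpa using hpq₁ 1
    have e10 : residue Â (p₂ * al + q₂ * al') = 0 := by simpa using hpq₂ 0
    have e11 : residue Â (p₂ * be + q₂ * be') = 1 := by simpa using hpq₂ 1
    refine isUnit_of_map_unit (residue Â) _ (IsUnit.of_mul_eq_one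
      (residue Â (p₁ * q₂ - q₁ * p₂)) ?_)
    rw [← map_mul, show (al * be' - be * al') * (p₁ * q₂ - q₁ * p₂) =
      (p₁ * al + q₁ * al') * (p₂ * be + q₂ * be') - (p₁ * be + q₁ * be') * (p₂ * al + q₂ * al') by ring,
      map_sub, map_mul, map_mul, e00, e11, e01, mul_one, zero_mul, sub_zero]
  -- the equation
  have heq : qb (U * V - C (ι a)) = 0 := by
    have h0 : qa (X 0 * X 1 - C (ι a)) = 0 :=
      Ideal.Quotient.eq_zero_iff_mem.2 (Ideal.mem_span_singleton_self _)
    have := congrArg e h0
    rw [map_sub, map_mul, map_sub, map_mul, he a, map_zero, ← hU, ← hV] at this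
    rw [map_sub, map_mul]
    exact this
  obtain ⟨W, hW⟩ := Ideal.mem_span_singleton'.1 (Ideal.Quotient.eq_zero_iff_mem.1 heq)
  have c00 := congrArg constantCoeff hW
  have c10 := congrArg (coeff (Finsupp.single 0 1)) hW
  have c01 := congrArg (coeff (Finsupp.single 1 1)) hW
  rw [coeff_one_mul] at c10 c01
  simp only [map_mul, map_sub, coeff_one_mul, constantCoeff_X, constantCoeff_C, coeff_C, coeff_X,
    Finsupp.single_eq_zero, one_ne_zero, if_false, mul_zero, zero_mul, add_zero, zero_add,
    sub_zero, zero_sub, mul_neg] at c00 c10 c01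
  set u0 := constantCoeff U
  set v0 := constantCoeff V
  have hu : u0 ∈ Ideal.span {ι b} := by
    obtain ⟨w, hw⟩ := hdet.exists_left_inv
    refine Ideal.mem_span_singleton'.2
      ⟨w * (coeff (Finsupp.single 0 1) W * be - coeff (Finsupp.single 1 1) W * al), ?_⟩
    linear_combination (-(w * be)) * c10 + (w * al) * c01 + u0 * hw
  have : u0 * v0 - ι a ∈ Ideal.span {ι b} := by
    rw [← c00]; exact neg_mem (Ideal.mul_mem_left _ _ (Ideal.mem_span_singleton_self _))
  simpa using sub_mem (Ideal.mul_mem_right v0 _ hu) this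

end Groth.PlaneCurve.ThickUnique
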