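import Groth.Agent.PlaneCurve.SmoothChart
import Groth.Agent.PlaneCurve.AffineSmooth

/-!
# Smoothness of short Weierstrass cubics
-/

set_option linter.style.haveILetI false

universe u

open CategoryTheory CategoryTheory.Limits AlgebraicGeometry Opposite TopologicalSpace MvPolynomial

namespace Groth.PlaneCurve

variable {k : Type u} [Field k]

/-- Smoothness of a hypersurface is smoothness of all its affine equations. -/
theorem smooth_hyp_iff {n d : ℕ} {G : LefPen.Form n k d}
    [inst : ((LefPen.hypIdeal G).subscheme).Over (Spec (CommRingCat.of k))]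
    (hinst : (LefPen.hypIdeal G).subscheme ↘ (Spec (CommRingCat.of k)) =
      (LefPen.hypIdeal G).subschemeι ≫ CohB1.ProjSpace.toSpec n k) :
    Smooth ((LefPen.hypIdeal G).subscheme ↘ Spec (CommRingCat.of k)) ↔
      ∀ j, Algebra.Smooth k (MvPolynomial (Fin n) k ⧸ Ideal.span {affEq j G}) := by
  have hch : ∀ j, IsAffineOpen (LefPen.chart n k j) := fun j =>
    Proj.isAffineOpen_basicOpen (CohB1.polyGrading n k) _ (LefPen.X_mem n k j) one_pos
  rw [HasRingHomProperty.iff_of_iSup_eq_top (P := @Smooth)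
    (fun j => (⟨(LefPen.hypIdeal G).subschemeι ⁻¹ᵁ LefPen.chart n k j,
      (hch j).preimage (LefPen.hypIdeal G).subschemeι⟩ : (LefPen.hypIdeal G).subscheme.affineOpens))]
  · exact forall_congr' fun j => smooth_appLE_iff j hinst
  · rw [← Scheme.Hom.preimage_iSup]
    have := Proj.iSup_basicOpen_eq_top (CohB1.polyGrading n k) _
      (Groth.Chow.ToPn.irrelevant_le_span_X (R := k) (n := n))
    erw [this]
    rfl

theorem disc_eq_zero {L : Type u} [Field L] {a b x : L} (ha : a = -3 * x ^ 2)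
    (hb : b = -2 * x ^ 3) : 4 * a ^ 3 + 27 * b ^ 2 = 0 := by
  subst ha hb; ring

theorem exists_double_root {L : Type u} [Field L] [IsAlgClosed L] (h2 : (2 : L) ≠ 0) {a b : L}
    (h : 4 * a ^ 3 + 27 * b ^ 2 = 0) :
    ∃ x : L, x ^ 3 + a * x - b = 0 ∧ 3 * x ^ 2 + a = 0 := by
  by_cases h3 : (3 : L) = 0
  · have ha : a = 0 := by
      have h1 : 2 ^ 2 * a ^ 3 = 0 := by linear_combination h - (9 * b ^ 2) * h3
      simpa [h2] using h1
    obtain ⟨x, hx⟩ := IsAlgClosed.exists_pow_nat_eq b (n := 3) (by norm_num)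
    exact ⟨x, by rw [ha, hx]; ring, by rw [ha, h3]; ring⟩
  by_cases ha : a = 0
  · subst ha
    have h1 : (3 : L) ^ 3 * b ^ 2 = 0 := by linear_combination h
    have hb : b = 0 := by simpa [h3] using h1
    exact ⟨0, by rw [hb]; ring, by ring⟩
  refine ⟨3 * b / (2 * a), ?_, ?_⟩
  · field_simp
    linear_combination b * h
  · field_simp
    linear_combination h

theorem weierstrass_affEq (a b : k) (W : LefPen.Form 2 k 3)
    (hW : (W : MvPolynomial (Fin (2 + 1)) k) = X 1 ^ 2 * X 2 - X 0 ^ 3 - C a * X 0 * X 2 ^ 2 +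
      C b * X 2 ^ 3) :
    affEq 0 W = (X 0 ^ 2 * X 1 - 1 - C a * X 1 ^ 2 + C b * X 1 ^ 3 : MvPolynomial (Fin 2) k) ∧
    affEq 1 W = (X 1 - X 0 ^ 3 - C a * X 0 * X 1 ^ 2 + C b * X 1 ^ 3 : MvPolynomial (Fin 2) k) ∧
    affEq 2 W = (X 1 ^ 2 - X 0 ^ 3 - C a * X 0 + C b : MvPolynomial (Fin 2) k) := by
  have h00 : affCoord (k := k) (0 : Fin 3) 0 = 1 := Fin.insertNth_apply_same _ _ _
  have h01 : affCoord (k := k) (0 : Fin 3) 1 = X 0 :=
    Fin.insertNth_apply_succAbove (α := fun _ => MvPolynomial (Fin 2) k) 0 1 X 0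
  have h02 : affCoord (k := k) (0 : Fin 3) 2 = X 1 :=
    Fin.insertNth_apply_succAbove (α := fun _ => MvPolynomial (Fin 2) k) 0 1 X 1
  have h10 : affCoord (k := k) (1 : Fin 3) 0 = X 0 :=
    Fin.insertNth_apply_succAbove (α := fun _ => MvPolynomial (Fin 2) k) 1 1 X 0
  have h11 : affCoord (k := k) (1 : Fin 3) 1 = 1 := Fin.insertNth_apply_same _ _ _
  have h12 : affCoord (k := k) (1 : Fin 3) 2 = X 1 :=
    Fin.insertNth_apply_succAbove (α := fun _ => MvPolynomial (Fin 2) k) 1 1 X 1
  have h20 : affCoord (k := k) (2 : Fin 3) 0 = X 0 :=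
    Fin.insertNth_apply_succAbove (α := fun _ => MvPolynomial (Fin 2) k) 2 1 X 0
  have h21 : affCoord (k := k) (2 : Fin 3) 1 = X 1 :=
    Fin.insertNth_apply_succAbove (α := fun _ => MvPolynomial (Fin 2) k) 2 1 X 1
  have h22 : affCoord (k := k) (2 : Fin 3) 2 = 1 := Fin.insertNth_apply_same _ _ _
  refine ⟨?_, ?_, ?_⟩ <;>
    simp only [affEq, hW, eval₂_add, eval₂_sub, eval₂_mul, eval₂_pow, eval₂_X, eval₂_C, h00, h01,
      h02, h10, h11, h12, h20, h21, h22] <;> ring

/-- A short Weierstrass cubic is smooth exactly when its discriminant is nonzero. -/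
theorem smooth_weierstrass_iff (h2 : (2 : k) ≠ 0) (a b : k) (W : LefPen.Form 2 k 3)
    (hW : (W : MvPolynomial (Fin (2 + 1)) k) = X 1 ^ 2 * X 2 - X 0 ^ 3 - C a * X 0 * X 2 ^ 2 +
      C b * X 2 ^ 3)
    [inst : ((LefPen.hypIdeal W).subscheme).Over (Spec (CommRingCat.of k))]
    (hinst : (LefPen.hypIdeal W).subscheme ↘ (Spec (CommRingCat.of k)) =
      (LefPen.hypIdeal W).subschemeι ≫ CohB1.ProjSpace.toSpec 2 k) :
    Smooth ((LefPen.hypIdeal W).subscheme ↘ (Spec (CommRingCat.of k))) ↔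
      4 * a ^ 3 + 27 * b ^ 2 ≠ 0 := by
  rw [smooth_hyp_iff hinst]
  obtain ⟨e0, e1, e2⟩ := weierstrass_affEq a b W hW
  obtain ⟨L, _, _, _⟩ : ∃ (L : Type u) (_ : Field L) (_ : Algebra k L), IsAlgClosed L :=
    ⟨AlgebraicClosure k, inferInstance, inferInstance, inferInstance⟩
  have hinj := (algebraMap k L).injective
  have h2L : (2 : L) ≠ 0 := fun h => h2 (hinj (by rw [map_ofNat, map_zero]; exact h))
  set A := algebraMap k L a with hA
  set B := algebraMap k L b with hB
  constructor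
  · intro h hd
    have hdL : 4 * A ^ 3 + 27 * B ^ 2 = 0 := by
      have := congrArg (algebraMap k L) hd
      simpa only [map_add, map_mul, map_pow, map_ofNat, map_zero, ← hA, ← hB] using this
    obtain ⟨x, hx0, hx1⟩ := exists_double_root h2L hdL
    have h' := h 2
    rw [e2] at h'
    exact not_formallySmooth_doubleRoot a b x hx0 hx1 h'.formallySmooth
  intro hd j
  have hdisc : ∀ x : L, A = -3 * x ^ 2 → B = -2 * x ^ 3 → False := fun x ha hb => by
    refine hd (hinj ?_)
    simp only [map_add, map_mul, map_pow, map_ofNat, map_zero, ← hA, ← hB]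
    exact disc_eq_zero ha hb
  refine smooth_of_noSing L _ fun φ hF => ?_
  by_contra! hl
  have hC : ∀ r, φ (C r) = algebraMap k L r := φ.commutes
  have p0 := hl 0
  have p1 := hl 1
  set u := φ (X 0) with hu
  set v := φ (X 1) with hv
  fin_cases j
  · simp only [Fin.zero_eta, e0, map_add, map_sub, map_mul, map_pow, map_one, hC, map_ofNat, ← hA, ← hB,
      ← hu, ← hv] at hF p0 p1
    simp [pderiv_X, pderiv_one, Pi.single_apply, map_add, map_sub, map_mul, map_pow, hC, map_ofNat, ← hA, ← hB,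
      ← hu, ← hv] at p0 p1
    have hv0 : v ≠ 0 := fun h => by rw [h] at hF; norm_num at hF
    have hu0 : u = 0 := by simpa [h2L, hv0] using p0
    rw [hu0] at hF p1
    have h3b : 3 * B * v = 2 * A := mul_right_cancel₀ hv0 (by linear_combination p1)
    have hxA : A = -3 * (1 / v) ^ 2 := by
      field_simp
      linear_combination (-3 : L) * hF + v ^ 2 * h3b
    refine hdisc (1 / v) hxA ?_
    have : B * v ^ 3 = -2 := by linear_combination (-2 : L) * hF + v ^ 2 * h3b
    field_simp
    linear_combination this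
  · simp only [Fin.mk_one, e1, map_add, map_sub, map_mul, map_pow, hC, map_ofNat, ← hA, ← hB,
      ← hu, ← hv] at hF p0 p1
    simp [pderiv_X, Pi.single_apply, map_add, map_sub, map_mul, map_pow, hC, map_ofNat, ← hA, ← hB,
      ← hu, ← hv] at p0 p1
    have hv0 : v ≠ 0 := fun h => by
      rw [h] at hF p1
      have hu0 : u = 0 := pow_eq_zero_iff (n := 3) (by norm_num) |>.1 (by linear_combination -hF)
      rw [hu0] at p1
      norm_num at p1
    obtain ⟨x, hx⟩ : ∃ x, u = x * v := ⟨u / v, by field_simp⟩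
    rw [hx] at hF p0 p1
    have hxA : A = -3 * x ^ 2 := mul_right_cancel₀ (pow_ne_zero 2 hv0) (by linear_combination -p0)
    refine hdisc x hxA ?_
    have h5 : v ^ 3 * (-x ^ 3 + A * x - 2 * B) = 0 := by linear_combination hF - v * p1
    have h6 := (mul_eq_zero.1 h5).resolve_left (pow_ne_zero 3 hv0)
    refine mul_left_cancel₀ h2L ?_
    linear_combination -h6 + x * hxA
  · simp only [Fin.reduceFinMk, e2, map_add, map_sub, map_mul, map_pow, hC, map_ofNat, ← hA, ← hB,
      ← hu, ← hv] at hF p0 p1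
    simp [pderiv_X, Pi.single_apply, map_add, map_sub, map_mul, map_pow, hC, map_ofNat, ← hA, ← hB,
      ← hu, ← hv] at p0 p1
    have hv0 : v = 0 := by simpa [h2L] using p1
    rw [hv0] at hF
    have hxA : A = -3 * u ^ 2 := by linear_combination -p0
    exact hdisc u hxA (by linear_combination hF + u * hxA)

end Groth.PlaneCurve
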